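import Cfsg.Agent.Chev.Univ.Multi.Cert
import Cfsg.Agent.Chev.Full

/-! Certificates for several root lengths. -/

set_option autoImplicit false
set_option Elab.async false
set_option maxHeartbeats 0
set_option maxRecDepth 20000

open Cfsg.Lie

namespace Cfsg.Lib.Chev.Univ.Multi

/-- Certificate for G2. -/
def tabG2 : Tables where
  V := [[(-1), 0], [0, (-1)], [(-1), (-1)], [(-1), (-2)], [(-1), (-3)]]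
  T := []
  Ws := [((0, 0), [1, 0, 1]), ((0, 1), [1, 0, 1, 0, 1]), ((0, 2), [1, 0, 1, 0]), ((0, 3), [1, 0]), ((0, 5), [1]), ((1, 0), [0, 1, 0, 1]), ((1, 1), [0, 1]), ((1, 2), [0, 1, 0]), ((1, 3), [0, 1, 0, 1, 0]), ((1, 4), [0])]

theorem okG2 : okMulti chevG2 G2.cert [1, 2, 3] [1] true tabG2 = true := by decide +kernel

/-- Certificate for B2. -/
def tabB2 : Tables where
  V := [[(-1), 0], [0, (-1)], [(-1), (-1)]]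
  T := [(1, 2), (1, 5), (2, 6), (5, 6)]
  Ws := [((0, 0), [1, 0, 1]), ((0, 1), [1, 0]), ((0, 3), [1]), ((1, 0), [0, 1]), ((1, 1), [0, 1, 0]), ((1, 2), [0])]

theorem okB2 : okMulti chevB2 B2.cert [1, 2, 3] [1] true tabB2 = true := by decide +kernel

/-- Certificate for D4. -/
def tabD4 : Tables where
  V := [[(-1), 0, 0, 0], [0, (-1), 0, 0], [(-1), 0, (-1), 0], [(-1), 0, 0, 1], [(-2), (-2), (-1), (-1)]]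
  T := []
  Ws := [((0, 0), [1, 0, 2, 1, 3]), ((0, 1), [2, 3, 1, 0]), ((0, 2), [2, 1, 0]), ((0, 3), [3, 1, 0]), ((0, 4), [1, 0]), ((0, 6), [2, 1, 3]), ((0, 7), [1, 2]), ((0, 8), [1, 3]), ((0, 9), [1]), ((0, 10), [2]), ((0, 11), [3]), ((1, 0), [0, 1, 2, 3, 1, 0]), ((1, 1), [0, 2, 1, 3]), ((1, 2), [0, 1, 2]), ((1, 3), [0, 1, 3]), ((1, 4), [0, 1]), ((1, 5), [0]), ((1, 6), [2, 1, 3]), ((1, 7), [2, 1]), ((1, 8), [3, 1]), ((1, 10), [2]), ((1, 11), [3]), ((2, 0), [1, 0, 2, 1, 3]), ((2, 1), [0, 3, 1, 2]), ((2, 2), [0, 1, 2]), ((2, 3), [0, 1, 3]), ((2, 4), [0, 1]), ((2, 5), [0]), ((2, 6), [3, 1, 2]), ((2, 7), [1, 2]), ((2, 8), [1, 3]), ((2, 9), [1]), ((2, 11), [3]), ((3, 0), [1, 0, 2, 1, 3]), ((3, 1), [0, 2, 1, 3]), ((3, 2), [0, 1, 2]), ((3, 3), [0, 1, 3]), ((3, 4), [0, 1]), ((3, 5), [0]), ((3, 6),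 [2, 1, 3]), ((3, 7), [1, 2]), ((3, 8), [1, 3]), ((3, 9), [1]), ((3, 10), [2])]

theorem okD4 : okMulti chevD4 D4.cert [1, 2, 3] [1] true tabD4 = true := by decide +kernel

/-- Certificate for F4. -/
def tabF4odd : Tables where
  V := [[0, 0, (-1), 0], [0, 0, 0, (-1)], [(-1), (-1), (-1), 0], [(-1), (-1), (-2), (-1)], [(-1), (-2), (-3), (-2)]]
  T := [(4, 46), (4, 47), (8, 9), (10, 8), (10, 9), (10, 11), (10, 18), (10, 34), (10, 35), (10, 40), (10, 44), (11, 19), (11, 20), (11, 29), (11, 34), (11, 35), (11, 44), (12, 20), (12, 34), (12, 36), (12, 44), (13, 35), (13, 36), (13, 44), (14, 18), (14, 19), (14, 20), (14, 34), (14, 35), (14, 44), (18, 19), (18, 20), (18, 44), (19, 20), (19, 44), (20, 44), (27, 3), (28, 3), (29, 3), (29, 44), (33, 40), (34, 9), (36, 40), (37, 38), (37, 39), (44, 7),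 (44, 8), (44, 9), (46, 6)]
  Ws := [((0, 0), [3, 2, 1, 0, 2, 1, 2, 3]), ((0, 1), [2, 1, 0, 2, 1, 2, 3]), ((0, 2), [1, 0, 2, 1, 2, 3]), ((0, 3), [1, 0, 2, 1, 0, 2, 1, 3, 2, 1, 0]), ((0, 4), [2, 1, 0, 3, 2, 1, 2]), ((0, 5), [1, 0, 3, 2, 1, 2]), ((0, 6), [1, 0, 2, 1, 2]), ((0, 7), [1, 2, 1, 0, 3, 2, 1]), ((0, 8), [2, 1, 0, 3, 2, 1]), ((0, 9), [1, 0, 3, 2, 1]), ((0, 10), [1, 0, 2, 1]), ((0, 11), [3, 2, 1, 0]), ((0, 12), [2, 1, 0]), ((0, 13), [1, 0]), ((0, 15), [2, 1, 2, 3]), ((0, 16), [1, 2, 3]), ((0, 17), [1, 2]), ((0, 18), [3, 2, 1]), ((0, 19), [2, 1]), ((0, 20), [1]), ((0, 21), [2, 3]), ((0, 22), [2]), ((0, 23), [3]), ((1, 0), [3, 2, 1, 0, 2, 1, 2, 3]), ((1, 1), [2, 1, 0, 2, 1, 2, 3]), ((1, 2), [0, 1, 2, 1, 0, 3, 2, 1, 2]), ((1, 3), [0, 1, 2, 1, 0, 3, 2, 1]), ((1, 4), [0, 2, 1, 2, 3]), ((1,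 5), [0, 1, 2, 3]), ((1, 6), [0, 1, 2]), ((1, 7), [2, 1, 0, 2, 1, 3, 2, 1, 0]), ((1, 8), [2, 1, 0, 3, 2, 1]), ((1, 9), [0, 1, 3, 2, 1, 0]), ((1, 10), [0, 1, 2, 1, 0]), ((1, 11), [0, 3, 2, 1]), ((1, 12), [0, 2, 1]), ((1, 13), [0, 1]), ((1, 14), [0]), ((1, 15), [2, 1, 2, 3]), ((1, 16), [3, 2, 1, 2]), ((1, 17), [2, 1, 2]), ((1, 18), [3, 2, 1]), ((1, 19), [2, 1]), ((1, 21), [2, 3]), ((1, 22), [2]), ((1, 23), [3]), ((2, 0), [3, 2, 1, 0, 2, 1, 2, 3]), ((2, 1), [1, 0, 2, 1, 0, 2, 1, 3, 2]), ((2, 2), [1, 0, 2, 1, 2, 3]), ((2, 3), [0, 1, 2, 1, 0, 3, 2, 1]), ((2, 4), [0, 1, 2, 1, 3, 2]), ((2, 5), [0, 1, 2, 3]), ((2, 6), [0, 1, 2]), ((2, 7), [1, 2, 1, 0, 3, 2, 1]), ((2, 8), [3, 2, 1, 0, 2, 1, 3, 2, 1]), ((2, 9), [1, 0, 3, 2, 1]), ((2, 10), [1, 0, 2, 1]), ((2, 11), [0, 3, 2, 1]), ((2, 12), [0, 1, 2, 1]),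 ((2, 13), [0, 1]), ((2, 14), [0]), ((2, 15), [1, 2, 1, 3, 2]), ((2, 16), [1, 2, 3]), ((2, 17), [1, 2]), ((2, 18), [3, 2, 1]), ((2, 19), [1, 2, 1]), ((2, 20), [1]), ((2, 21), [3, 2]), ((2, 23), [3]), ((3, 0), [2, 1, 0, 3, 2, 1, 0, 2, 1, 3, 2]), ((3, 1), [2, 1, 0, 2, 1, 2, 3]), ((3, 2), [1, 0, 2, 1, 2, 3]), ((3, 3), [0, 1, 2, 1, 0, 3, 2, 1]), ((3, 4), [0, 2, 1, 2, 3]), ((3, 5), [0, 1, 2, 3]), ((3, 6), [0, 1, 2]), ((3, 7), [1, 2, 1, 0, 3, 2, 1]), ((3, 8), [2, 1, 0, 3, 2, 1]), ((3, 9), [1, 0, 2, 1, 3, 2, 1]), ((3, 10), [1, 0, 2, 1]), ((3, 11), [0, 2, 1, 3, 2, 1]), ((3, 12), [0, 2, 1]), ((3, 13), [0, 1]), ((3, 14), [0]), ((3, 15), [2, 1, 2, 3]), ((3, 16), [1, 2, 3]), ((3, 17), [1, 2]), ((3, 18), [2, 1, 3, 2, 1]), ((3, 19), [2, 1]), ((3, 20), [1]), ((3, 21), [2, 3]), ((3, 22), [2])]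

theorem okF4odd : okMulti chevF4 F4.cert [1] [1, 2] false tabF4odd = true := by decide +kernel

/-- Certificate for F4. -/
def tabF4even : Tables where
  V := [[(-1), 0, 0, 0], [0, (-1), 0, 0], [0, 0, 0, (-1)], [(-1), (-1), (-2), 0], [0, (-1), (-2), (-2)], [(-1), (-2), (-3), (-2)]]
  T := [(0, 45), (0, 46), (1, 47), (4, 46), (4, 47), (10, 11), (10, 18), (10, 34), (10, 35), (10, 40), (10, 44), (11, 19), (11, 20), (11, 29), (11, 44), (12, 20), (12, 44), (13, 44), (14, 18), (14, 19), (14, 20), (14, 34), (14, 35), (14, 44), (15, 5), (15, 6), (15, 25), (15, 46), (15, 47), (16, 6), (16, 22), (16, 24), (16, 32), (16, 47), (17, 32), (21, 6), (21, 24), (21, 47), (23, 6), (23, 47), (24, 5), (24, 46), (33, 40), (34, 9), (44, 7), (44, 8), (44, 9), (46, 6)]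
  Ws := [((0, 0), [3, 2, 1, 0, 2, 1, 2, 3]), ((0, 1), [2, 1, 0, 2, 1, 2, 3]), ((0, 2), [1, 0, 2, 1, 2, 3]), ((0, 3), [1, 0, 2, 1, 0, 2, 1, 3, 2, 1, 0]), ((0, 4), [2, 1, 0, 3, 2, 1, 2]), ((0, 5), [1, 0, 3, 2, 1, 2]), ((0, 6), [1, 0, 2, 1, 2]), ((0, 7), [1, 2, 1, 0, 3, 2, 1]), ((0, 8), [2, 1, 0, 3, 2, 1]), ((0, 9), [1, 0, 3, 2, 1]), ((0, 10), [1, 0, 2, 1]), ((0, 11), [3, 2, 1, 0]), ((0, 12), [2, 1, 0]), ((0, 13), [1, 0]), ((0, 15), [2, 1, 2, 3]), ((0, 16), [1, 2, 3]), ((0, 17), [1, 2]), ((0, 18), [3, 2, 1]), ((0, 19), [2, 1]), ((0, 20), [1]), ((0, 21), [2, 3]), ((0, 22), [2]), ((0, 23), [3]), ((1, 0), [3, 2, 1, 0, 2, 1, 2, 3]), ((1, 1), [2, 1, 0, 2, 1, 2, 3]), ((1, 2), [0, 1, 2, 1, 0, 3, 2, 1, 2]), ((1, 3), [0, 1, 2, 1, 0, 3, 2, 1]), ((1, 4), [0, 2, 1, 2, 3]), ((1, 5), [0, 1, 2, 3]), ((1, 6),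 [0, 1, 2]), ((1, 7), [2, 1, 0, 2, 1, 3, 2, 1, 0]), ((1, 8), [2, 1, 0, 3, 2, 1]), ((1, 9), [0, 1, 3, 2, 1, 0]), ((1, 10), [0, 1, 2, 1, 0]), ((1, 11), [0, 3, 2, 1]), ((1, 12), [0, 2, 1]), ((1, 13), [0, 1]), ((1, 14), [0]), ((1, 15), [2, 1, 2, 3]), ((1, 16), [3, 2, 1, 2]), ((1, 17), [2, 1, 2]), ((1, 18), [3, 2, 1]), ((1, 19), [2, 1]), ((1, 21), [2, 3]), ((1, 22), [2]), ((1, 23), [3]), ((2, 0), [3, 2, 1, 0, 2, 1, 2, 3]), ((2, 1), [1, 0, 2, 1, 0, 2, 1, 3, 2]), ((2, 2), [1, 0, 2, 1, 2, 3]), ((2, 3), [0, 1, 2, 1, 0, 3, 2, 1]), ((2, 4), [0, 1, 2, 1, 3, 2]), ((2, 5), [0, 1, 2, 3]), ((2, 6), [0, 1, 2]), ((2, 7), [1, 2, 1, 0, 3, 2, 1]), ((2, 8), [3, 2, 1, 0, 2, 1, 3, 2, 1]), ((2, 9), [1, 0, 3, 2, 1]), ((2, 10), [1, 0, 2, 1]), ((2, 11), [0, 3, 2, 1]), ((2, 12), [0, 1, 2, 1]), ((2, 13), [0, 1]), ((2,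 14), [0]), ((2, 15), [1, 2, 1, 3, 2]), ((2, 16), [1, 2, 3]), ((2, 17), [1, 2]), ((2, 18), [3, 2, 1]), ((2, 19), [1, 2, 1]), ((2, 20), [1]), ((2, 21), [3, 2]), ((2, 23), [3]), ((3, 0), [2, 1, 0, 3, 2, 1, 0, 2, 1, 3, 2]), ((3, 1), [2, 1, 0, 2, 1, 2, 3]), ((3, 2), [1, 0, 2, 1, 2, 3]), ((3, 3), [0, 1, 2, 1, 0, 3, 2, 1]), ((3, 4), [0, 2, 1, 2, 3]), ((3, 5), [0, 1, 2, 3]), ((3, 6), [0, 1, 2]), ((3, 7), [1, 2, 1, 0, 3, 2, 1]), ((3, 8), [2, 1, 0, 3, 2, 1]), ((3, 9), [1, 0, 2, 1, 3, 2, 1]), ((3, 10), [1, 0, 2, 1]), ((3, 11), [0, 2, 1, 3, 2, 1]), ((3, 12), [0, 2, 1]), ((3, 13), [0, 1]), ((3, 14), [0]), ((3, 15), [2, 1, 2, 3]), ((3, 16), [1, 2, 3]), ((3, 17), [1, 2]), ((3, 18), [2, 1, 3, 2, 1]), ((3, 19), [2, 1]), ((3, 20), [1]), ((3, 21), [2, 3]), ((3, 22), [2])]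

theorem okF4even : okMulti chevF4 F4.cert [1, 2] [1] false tabF4even = true := by decide +kernel

end Cfsg.Lib.Chev.Univ.Multi
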