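import Cfsg.Agent.Chev.Univ.Multi.Rel
import Cfsg.Agent.Chev.Univ.Multi.Data
import Cfsg.Agent.Chev.Univ.DataE6
import Cfsg.Agent.Chev.Univ.DataE7
import Cfsg.Agent.Chev.Univ.DataE8
import Cfsg.Agent.Chev.Univ.Multiplier
import Cfsg.Agent.Chev.St.DataOk
import Cfsg.Agent.Chev.St.CenterData
import Mathlib.Algebra.Polynomial.Roots

/-! The fields admitting the tables, and Schur multipliers. -/

set_option autoImplicit false

open Cfsg.Lie

namespace Cfsg.Lib.Chev.Univ.Multi

variable {F : Type*} [Field F]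

theorem exists_eval_ne (s : Finset F) (p : Polynomial F) (hp : p ≠ 0) (h : p.natDegree < s.card) :
    ∃ a : F, p.eval a ≠ 0 := by
  by_contra hall
  push Not at hall
  exact hp (Polynomial.eq_zero_of_natDegree_lt_card_of_eval_eq_zero' p s (fun a _ => hall a) h)

theorem exists_pow_ne (s : Finset F) {m : ℕ} (hm : 0 < m) (h : m + 1 < s.card) : ∃ a : F, a ≠ 0 ∧ a ^ m ≠ 1 := by
  obtain ⟨a, ha⟩ := exists_eval_ne s (Polynomial.X * (Polynomial.X ^ m - Polynomial.C 1))
    (mul_ne_zero Polynomial.X_ne_zero (Polynomial.X_pow_sub_C_ne_zero hm 1)) (by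
      refine lt_of_le_of_lt Polynomial.natDegree_mul_le ?_
      rw [Polynomial.natDegree_X, Polynomial.natDegree_X_pow_sub_C]
      omega)
  simp only [Polynomial.eval_mul, Polynomial.eval_X, Polynomial.eval_sub, Polynomial.eval_pow, Polynomial.eval_C,
    mul_ne_zero_iff, sub_ne_zero] at ha
  exact ⟨a, ha⟩

theorem exists_three_ne (s : Finset F) (h : 4 < s.card) : ∃ c : F, c ≠ 0 ∧ 1 + c ≠ 0 ∧ 1 + c + c ^ 2 ≠ 0 := by
  obtain ⟨c, hc⟩ := exists_eval_ne s
    (Polynomial.X * (1 + Polynomial.X) * (1 + Polynomial.X + Polynomial.X ^ 2))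
    (mul_ne_zero (mul_ne_zero Polynomial.X_ne_zero
        (fun e => by simpa using congrArg (Polynomial.eval (0 : F)) e))
      (fun e => by simpa using congrArg (Polynomial.eval (0 : F)) e))
    (lt_of_le_of_lt (by compute_degree) h)
  simp only [Polynomial.eval_mul, Polynomial.eval_X, Polynomial.eval_add, Polynomial.eval_pow, Polynomial.eval_one,
    mul_ne_zero_iff] at hc
  exact ⟨c, hc.1.1, hc.1.2, hc.2⟩

theorem adm_big (s : Finset F) (h : 4 < s.card) : Adm F [1, 2, 3] [1] true where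
  exp m hm := by
    simp only [List.mem_cons, List.not_mem_nil, or_false] at hm
    exact exists_pow_ne s (by omega) (by omega)
  coe m hm := by simp [List.mem_singleton.1 hm]
  one _ := exists_three_ne s h
  two _ := by
    by_cases h2 : (2 : F) = 0
    · obtain ⟨c, hc, hc1, hc2⟩ := exists_three_ne s h
      refine Or.inr ⟨c, hc, ?_, ?_⟩
      · rw [show 1 + c ^ 2 = (1 + c) ^ 2 by linear_combination (-c) * h2]
        exact pow_ne_zero 2 hc1
      · rw [show 1 + c ^ 2 + c ^ 4 = (1 + c + c ^ 2) ^ 2 by linear_combination (-(c + c ^ 2 + c ^ 3)) * h2]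
        exact pow_ne_zero 2 hc2
    · exact Or.inl h2

theorem okMulti_F4 (hK : ∃ x : F, x ≠ 0 ∧ x ≠ 1) : OkMulti chevF4 F4.cert F := by
  by_cases h2 : (2 : F) = 0
  · obtain ⟨a, ha, ha1⟩ := hK
    refine ⟨_, _, _, _, okF4even, fun m hm => ⟨a, ha, ?_⟩, fun m hm => by simp [List.mem_singleton.1 hm],
      fun h => absurd h Bool.false_ne_true, fun h => absurd h Bool.false_ne_true⟩
    simp only [List.mem_cons, List.not_mem_nil, or_false] at hm
    rcases hm with rfl | rfl
    · simpa using ha1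
    · intro e
      have : (a - 1) ^ 2 = 0 := by linear_combination e + (-a + 1) * h2
      exact ha1 (sub_eq_zero.1 (sq_eq_zero_iff.1 this))
  · refine ⟨_, _, _, _, okF4odd, fun m hm => ⟨-1, by simp, ?_⟩, fun m hm => ?_,
      fun h => absurd h Bool.false_ne_true, fun h => absurd h Bool.false_ne_true⟩
    · rw [List.mem_singleton.1 hm, pow_one]
      intro e
      exact h2 (by linear_combination -e)
    · simp only [List.mem_cons, List.not_mem_nil, or_false] at hm
      rcases hm with rfl | rfl <;> simp [h2]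

variable {D : ChevalleyDatum}

/-- Every central extension splits over the group presented by (R1) and (R2). -/
theorem exists_lift {K : Type*} [Field K] (hK5 : ∃ s : Finset K, 4 < s.card)
    (hD : D ∈ [chevG2, chevB2, chevD4, chevF4, chevE6, chevE7, chevE8]) {E : Type*} [Group E]
    (π : E →* D.SteinbergCover K) (hπ : Function.Surjective π) (hc : π.ker ≤ Subgroup.center E) :
    ∃ τ : D.SteinbergCover K →* E, π.comp τ = MonoidHom.id _ := by
  obtain ⟨s, hs⟩ := hK5
  have key : ∀ {C : Cert} (S : Struct D C) (hN : okNeg D = true) (ok : ∃ W, St.okSt D C W = true),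
      (OkMulti D C K ∨ OkU D C) → ∃ τ : D.SteinbergCover K →* E, π.comp τ = MonoidHom.id _ := by
    intro C S hN ok h
    have hθ₀ : ∀ r < D.nroots, ∀ t, St.toChev S (St.ab_subset (D := D)) (St.pgen (D.steinbergRelsAB K) r t) =
        S.ok.xG r t := fun r hr t => St.toChev_pgen S _ hr t
    set P := St.presentedPres S hN ok (subset_refl (D.steinbergRelsAB K)) _ hθ₀
    have hgen := St.presentedPres_gen_top S hN ok (subset_refl (D.steinbergRelsAB K)) _ hθ₀
    obtain ⟨τ, hτ⟩ : ∃ τ : D.SteinbergCover K →* E, ∀ r < D.nroots, ∀ t, π (τ (D.scGen K r t)) = P.x r t := by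
      rcases h with h | h
      · exact (⟨⟨π, hπ, hc, hgen⟩, h⟩ : MExt P E).exists_section
      · exact (⟨π, hπ, hc, h⟩ : Ext P E).exists_section
    refine ⟨τ, PresentedGroup.ext fun p => ?_⟩
    have h1 := hτ p.1.val p.1.isLt p.2
    rw [show D.scGen K p.1.val p.2 = PresentedGroup.of p from pgen_eq_of _ p] at h1
    rw [MonoidHom.comp_apply, h1]
    exact pgen_eq_of _ p
  simp only [List.mem_cons, List.not_mem_nil, or_false] at hD
  rcases hD with rfl | rfl | rfl | rfl | rfl | rfl | rfl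
  · exact key ⟨G2.ok, G2.okChain_, G2.okBase_all, okOrder_G2⟩ okNeg_G2 ⟨_, St.okSt_G2⟩
      (Or.inl ⟨_, _, _, _, okG2, adm_big s hs⟩)
  · exact key ⟨B2.ok, B2.okChain_, B2.okBase_all, okOrder_B2⟩ okNeg_B2 ⟨_, St.okSt_B2⟩
      (Or.inl ⟨_, _, _, _, okB2, adm_big s hs⟩)
  · exact key ⟨D4.ok, D4.okChain_, D4.okBase_all, okOrder_D4⟩ okNeg_D4 ⟨_, St.okSt_D4⟩
      (Or.inl ⟨_, _, _, _, okD4, adm_big s hs⟩)
  · exact key ⟨F4.ok, F4.okChain_, F4.okBase_all, okOrder_F4⟩ okNeg_F4 ⟨_, St.okSt_F4⟩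
      (Or.inl (okMulti_F4 (by
        obtain ⟨a, ha, ha1⟩ := exists_pow_ne s one_pos (by omega)
        exact ⟨a, ha, by simpa using ha1⟩)))
  · exact key ⟨E6.ok, E6.okChain_, E6.okBase_all, okOrder_E6⟩ okNeg_E6 ⟨_, St.okSt_E6⟩ (Or.inr okU_E6)
  · exact key ⟨E7.ok, E7.okChain_, E7.okBase_all, okOrder_E7⟩ okNeg_E7 ⟨_, St.okSt_E7⟩ (Or.inr okU_E7)
  · exact key ⟨E8.ok, E8.okChain_, E8.okBase_all, okOrder_E8⟩ okNeg_E8 ⟨_, St.okSt_E8⟩ (Or.inr okU_E8)

theorem card_center_eq_one {C : Cert} {K : Type*} [Field K] (hD : D ∈ [chevG2, chevB2, chevD4, chevF4, chevE6, chevE7, chevE8])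
    (S : Struct D C) (hN : okNeg D = true) (ok : ∃ W, St.okSt D C W = true) {k : ℕ} {v w : List ℤ}
    {B : List (List ℤ)} (ht : St.okTorus D 1 k v w B = true) :
    Nat.card (Subgroup.center (D.SteinbergGroup K)) = 1 := by
  have hθ : ∀ r < D.nroots, ∀ t, St.toChev S (subset_refl (D.steinbergRels K)) (St.pgen (D.steinbergRels K) r t) =
      S.ok.xG r t := fun r hr t => St.toChev_pgen S _ hr t
  set θ := St.toChev S (subset_refl (D.steinbergRels K))
  set P := St.presentedPres S hN ok St.ab_subset θ hθ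
  have hgen := St.presentedPres_gen_top S hN ok St.ab_subset θ hθ
  have h3 : P.R3 := St.r3_of_rels S hN ok θ hθ
  rw [← St.ker_eq_center θ (St.range_eq_group P hgen) (St.center_group_bot hD) fun g hg => (P.kernel hgen hg).2,
    show θ.ker = Subgroup.map (P.torus h3) (Ok.tG D K).ker from P.ker_eq_map_torus h3 hgen,
    St.torus_ker_trivial S.ok ht, Subgroup.map_bot, Subgroup.card_bot]

theorem multiplier_G2 {K : Type*} [Field K] [Fintype K] (hK : 5 ≤ Fintype.card K) :
    Cfsg.HasCyclicSchurMultiplier ↥(chevG2.group K) 1 := by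
  have hs : 4 < (Finset.univ : Finset K).card := by rw [Finset.card_univ]; omega
  refine hasCyclicSchurMultiplier_of_section (C := G2.cert) (by simp) ⟨G2.ok, G2.okChain_, G2.okBase_all, okOrder_G2⟩
    okNeg_G2 ⟨_, St.okSt_G2⟩ (fun Γ _ σ PG hg hs' hz =>
      (⟨⟨σ, hs', hz, hg⟩, ⟨_, _, _, _, okG2, adm_big _ hs⟩⟩ : MExt PG Γ).exists_section)
    G2.perfect (fun _ => ?_) St.okTorus_G2
    (card_center_eq_one (by simp) ⟨G2.ok, G2.okChain_, G2.okBase_all, okOrder_G2⟩ okNeg_G2 ⟨_, St.okSt_G2⟩ St.okTorus_G2)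
  obtain ⟨a, ha, ha1⟩ := exists_pow_ne (Finset.univ : Finset K) one_pos (by omega)
  exact ⟨a, ha, by simpa using ha1⟩

theorem multiplier_F4 {K : Type*} [Field K] [Fintype K] (hK : 3 ≤ Fintype.card K) :
    Cfsg.HasCyclicSchurMultiplier ↥(chevF4.group K) 1 := by
  have hs : 2 < (Finset.univ : Finset K).card := by rw [Finset.card_univ]; omega
  obtain ⟨a, ha, ha1⟩ := exists_pow_ne (Finset.univ : Finset K) one_pos (by omega)
  exact hasCyclicSchurMultiplier_of_section (C := F4.cert) (by simp) ⟨F4.ok, F4.okChain_, F4.okBase_all, okOrder_F4⟩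
    okNeg_F4 ⟨_, St.okSt_F4⟩ (fun Γ _ σ PG hg hs' hz =>
      (⟨⟨σ, hs', hz, hg⟩, okMulti_F4 ⟨a, ha, by simpa using ha1⟩⟩ : MExt PG Γ).exists_section)
    F4.perfect (fun h => absurd h Bool.false_ne_true) St.okTorus_F4
    (card_center_eq_one (by simp) ⟨F4.ok, F4.okChain_, F4.okBase_all, okOrder_F4⟩ okNeg_F4 ⟨_, St.okSt_F4⟩ St.okTorus_F4)

end Cfsg.Lib.Chev.Univ.Multi
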