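import Cfsg.Agent.Chev.Univ.Cert

/-! Certified data for lifting Steinberg's relations through central extensions with several root lengths. -/

set_option autoImplicit false

open Cfsg.Lie

namespace Cfsg.Lib.Chev.Univ.Multi

variable (D : ChevalleyDatum) (C : Cert)

/-- The value at `r` of a vector of exponents of the torus. -/
noncomputable def wt (e : List ℤ) (r : ℕ) : ℤ :=
  @List.rec ℕ (fun _ => ℤ) 0 (fun i _ ih => e.getD i 0 * D.cartan i r + ih) (krange 0 D.rank)

/-- The table allows the exponent. -/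
noncomputable def allowE (Es : List ℕ) (v : ℤ) : Bool := kex (fun m => Nat.beq v.natAbs m) Es

/-- A decomposition of `r` with allowed coefficient, both parts commuting with `s`. -/
noncomputable def decOK (Us : List ℕ) (r s : ℕ) (ab : ℕ × ℕ) : Bool :=
  !Nat.beq ab.2 ab.1 && !Nat.beq ab.2 (rev D ab.1) && com0 D s ab.1 && com0 D s ab.2 &&
    match D.commTerms ab.1 ab.2 with
    | [q] => Nat.beq q.1 r && (Nat.beq q.2.2.1 1 || Nat.beq q.2.2.2 1) && kex (fun m => Nat.beq q.2.1.natAbs m) Us
    | _ => false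

/-- A commuting pair: separated by the torus, or handled by a decomposition. -/
noncomputable def okCom (Es Us : List ℕ) (V : List (List ℤ)) (T : List (ℕ × ℕ)) (r s : ℕ) : Bool :=
  kex (fun e => decide (wt D e s = 0) && allowE Es (wt D e r)) V ||
    kex (fun e => decide (wt D e r = 0) && allowE Es (wt D e s)) V ||
    kex (decOK D Us r s) T || kex (decOK D Us s r) T

/-- A pair with terms: separated by the torus. -/
noncomputable def okTerm (Es : List ℕ) (V : List (List ℤ)) (r s : ℕ) : Bool :=
  kex (fun e => decide (wt D e s = 0) && allowE Es (wt D e r)) V ||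
    kex (fun e => decide (wt D e r = 0) && allowE Es (wt D e s)) V

/-- One root: an exponent for the definition of the lift, and commutation with itself (mode `0`: a decomposition;
mode `1`: exponent one; mode `2`: exponent two and a decomposition with coefficient two). -/
noncomputable def okRoot (Es Us : List ℕ) (V : List (List ℤ)) (T : List (ℕ × ℕ)) (gen : Bool) (r : ℕ) : Bool :=
  kex (fun e => allowE Es (wt D e r)) V &&
    (kex (decOK D Us r r) T || (gen && kex (fun e => decide ((wt D e r).natAbs = 1)) V) ||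
      (gen && kex (fun e => decide ((wt D e r).natAbs = 2)) V && kex (decOK D [2] r r) T))

/-- A mixed pair is moved to a pair of positive roots by a word. -/
noncomputable def okMix (Ws : List ((ℕ × ℕ) × List ℕ)) (k s : ℕ) : Bool :=
  Nat.ble (Nat.div D.nroots 2) s || Nat.beq s (rev D (C.sr k)) ||
    kex (fun x => Nat.beq x.1.1 k && Nat.beq x.1.2 s && kall (fun a => Nat.blt a D.rank) x.2 &&
      Nat.ble (Nat.div D.nroots 2)
        (@List.rec ℕ (fun _ => ℕ → ℕ) (fun q => q) (fun a _ ih q => ih (C.w a q)) x.2 (C.sr k)) &&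
      Nat.ble (Nat.div D.nroots 2)
        (@List.rec ℕ (fun _ => ℕ → ℕ) (fun q => q) (fun a _ ih q => ih (C.w a q)) x.2 s)) Ws

/-- The certificate. -/
structure Tables where
  /-- vectors of exponents -/
  V : List (List ℤ)
  /-- decompositions -/
  T : List (ℕ × ℕ)
  /-- words -/
  Ws : List ((ℕ × ℕ) × List ℕ)

/-- All checks. -/
noncomputable def okMulti (Es Us : List ℕ) (gen : Bool) (B : Tables) : Bool :=
  let n := D.nroots
  let h := Nat.div n 2
  kall (okRoot D Es Us B.V B.T gen) (krange 0 n) &&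
  kall (fun r => kall (fun s => Nat.beq s r || Nat.beq s (rev D r) ||
    Bool.rec ((!(Nat.ble h r == Nat.ble h s)) || okTerm D Es B.V r s) (okCom D Es Us B.V B.T r s) (noTerms D r s))
    (krange 0 n)) (krange 0 n) &&
  kall (fun k => kall (okMix D C B.Ws k) (krange 0 n)) (krange 0 D.rank)

/-- The field admits the tables. -/
structure Adm (F : Type*) [Field F] (Es Us : List ℕ) (gen : Bool) : Prop where
  exp : ∀ m ∈ Es, ∃ a : F, a ≠ 0 ∧ a ^ m ≠ 1
  coe : ∀ m ∈ Us, (m : F) ≠ 0
  one : gen = true → ∃ c : F, c ≠ 0 ∧ 1 + c ≠ 0 ∧ 1 + c + c ^ 2 ≠ 0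
  two : gen = true → (2 : F) ≠ 0 ∨ ∃ s : F, s ≠ 0 ∧ 1 + s ^ 2 ≠ 0 ∧ 1 + s ^ 2 + s ^ 4 ≠ 0

/-- A certificate exists. -/
def OkMulti (F : Type*) [Field F] : Prop :=
  ∃ Es Us gen B, okMulti D C Es Us gen B = true ∧ Adm F Es Us gen

end Cfsg.Lib.Chev.Univ.Multi
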