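import Cfsg.Agent.Chev.Univ.Multi.Cert
import Cfsg.Agent.Chev.Univ.Lift
import Cfsg.Agent.Chev.St.Kernel

/-! Lifting root elements through a central extension, several root lengths: the canonical lifts given by
commutators with the torus. -/

set_option autoImplicit false

open Cfsg.Lie

namespace Cfsg.Lib.Chev.Univ.Multi

variable {D : ChevalleyDatum} {C : Cert} {F : Type*} [Field F]

section Generic

variable {H : Type*} [Group H]

/-- The subgroup generated by a family over a set of indices. -/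
def span (y : ℕ → F → H) (A : Set ℕ) : Subgroup H := Subgroup.closure {g | ∃ r ∈ A, ∃ t, g = y r t}

omit [Field F] in
theorem mem_span (y : ℕ → F → H) {A : Set ℕ} {r : ℕ} (hr : r ∈ A) (t : F) : y r t ∈ span y A :=
  Subgroup.subset_closure ⟨r, hr, t, rfl⟩

omit [Field F] in
theorem span_mono (y : ℕ → F → H) {A B : Set ℕ} (h : A ⊆ B) : span y A ≤ span y B :=
  (Subgroup.closure_le _).2 fun g ⟨r, hr, t, e⟩ => e ▸ mem_span y (h hr) t

omit [Field F] in
theorem conj_span (y : ℕ → F → H) {A : Set ℕ} {a : H} (h : ∀ b ∈ A, ∀ u, a * y b u * a⁻¹ ∈ span y A) {g : H}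
    (hg : g ∈ span y A) : a * g * a⁻¹ ∈ span y A := by
  induction hg using Subgroup.closure_induction with
  | mem g hg => obtain ⟨b, hb, u, rfl⟩ := hg; exact h b hb u
  | one => simp [one_mem]
  | mul x z _ _ ihx ihz =>
    rw [show a * (x * z) * a⁻¹ = (a * x * a⁻¹) * (a * z * a⁻¹) by group]
    exact mul_mem ihx ihz
  | inv x _ ihx =>
    rw [show a * x⁻¹ * a⁻¹ = (a * x * a⁻¹)⁻¹ by group]
    exact inv_mem ihx

/-- Ordered products exhaust a span. -/
theorem ordered_prod (y : ℕ → F → H) : ∀ L : List ℕ, L.Nodup → (∀ r ∈ L, ∀ t u, y r t * y r u = y r (t + u)) →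
    (∀ (A : List ℕ) (a : ℕ) (M : List ℕ), L = A ++ a :: M → ∀ b ∈ M, ∀ t u,
      y a t * y b u * (y a t)⁻¹ ∈ span y {r | r ∈ M}) →
    ∀ g ∈ span y {r | r ∈ L}, ∃ t : ℕ → F, g = (L.map fun r => y r (t r)).prod := by
  intro L
  induction L with
  | nil =>
    intro _ _ _ g hg
    have : span y {r | r ∈ ([] : List ℕ)} = ⊥ := eq_bot_iff.2 ((Subgroup.closure_le _).2 (by
      rintro x ⟨r, hr, -⟩; simp at hr))
    rw [this, Subgroup.mem_bot] at hg
    exact ⟨0, by simp [hg]⟩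
  | cons a M ih =>
    intro hnd hadd hcl g hg
    rw [List.nodup_cons] at hnd
    have ha := hadd a List.mem_cons_self
    have h0 : y a 0 = 1 := by
      have := ha 0 0
      rw [add_zero] at this
      exact mul_eq_left.1 this
    let xh : Multiplicative F →* H :=
      { toFun := fun t => y a t.toAdd
        map_one' := h0
        map_mul' := fun s t => (ha s.toAdd t.toAdd).symm }
    have hn : xh.range ≤ Subgroup.normalizer (span y {r | r ∈ M} : Set H) := by
      rintro _ ⟨t, rfl⟩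
      rw [Subgroup.mem_normalizer_iff]
      intro z
      refine ⟨fun hz => conj_span y (fun b hb u => hcl [] a M rfl b hb _ u) hz, fun hz => ?_⟩
      have h1 := conj_span y (a := xh t⁻¹) (fun b hb u => hcl [] a M rfl b hb _ u) hz
      rw [map_inv, show (xh t)⁻¹ * (xh t * z * (xh t)⁻¹) * (xh t)⁻¹⁻¹ = z by group] at h1
      exact h1
    have hle : span y {r | r ∈ a :: M} ≤ xh.range ⊔ span y {r | r ∈ M} := by
      refine (Subgroup.closure_le _).2 ?_
      rintro z ⟨r, hr, t, rfl⟩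
      rcases List.mem_cons.1 hr with rfl | hr
      · exact Subgroup.mem_sup_left ⟨Multiplicative.ofAdd t, rfl⟩
      · exact Subgroup.mem_sup_right (mem_span y hr t)
    have hset : g ∈ ((xh.range ⊔ span y {r | r ∈ M} : Subgroup H) : Set H) := hle hg
    rw [Subgroup.coe_mul_of_left_le_normalizer_right _ _ hn] at hset
    obtain ⟨z, ⟨t, rfl⟩, v, hv, rfl⟩ := Set.mem_mul.1 hset
    obtain ⟨f, hf⟩ := ih hnd.2 (fun r hr => hadd r (List.mem_cons_of_mem _ hr))
      (fun A b N e => hcl (a :: A) b N (by rw [e]; rfl)) v hv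
    refine ⟨Function.update f a t.toAdd, ?_⟩
    rw [List.map_cons, List.prod_cons, Function.update_self, hf]
    congr 2
    refine List.map_congr_left fun r hr => ?_
    rw [Function.update_of_ne (show r ≠ a from fun e => hnd.1 (e ▸ hr))]

variable {A : Type*} [CommGroup A] (β : F → F → A)

/-- Additive in the first place and invariant under a scalar other than one. -/
theorem triv_scalar (hl : ∀ t t' u, β (t + t') u = β t u * β t' u) {c : F} (hc : c ≠ 1)
    (hi : ∀ t u, β (c * t) u = β t u) (t u : F) : β t u = 1 := by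
  have hc' : c - 1 ≠ 0 := sub_ne_zero.2 hc
  have h := hl ((c - 1) * ((c - 1)⁻¹ * t)) ((c - 1)⁻¹ * t) u
  rw [show (c - 1) * ((c - 1)⁻¹ * t) + (c - 1)⁻¹ * t = c * ((c - 1)⁻¹ * t) by ring, hi,
    mul_inv_cancel_left₀ hc'] at h
  exact mul_eq_right.1 h.symm

/-- Biadditive and invariant under `c` and `1 + c`. -/
theorem triv_pair (hl : ∀ t t' u, β (t + t') u = β t u * β t' u) (hr : ∀ t u u', β t (u + u') = β t u * β t u')
    {c : F} (hp : 1 + c + c ^ 2 ≠ 0) (hi : ∀ t u, β (c * t) (c * u) = β t u)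
    (hi' : ∀ t u, β ((1 + c) * t) ((1 + c) * u) = β t u) (t u : F) : β t u = 1 := by
  have key : ∀ t u, β t (c * u) * β (c * t) u * β t u = 1 := fun t u => by
    have h := hi' t u
    rw [show (1 + c) * t = t + c * t by ring, show (1 + c) * u = u + c * u by ring, hl, hr, hr, hi] at h
    refine mul_left_cancel (a := β t u) ?_
    rw [mul_one]
    refine Eq.trans ?_ h
    ac_rfl
  obtain ⟨v, rfl⟩ : ∃ v, (1 + c + c ^ 2) * v = u := ⟨_, mul_inv_cancel_left₀ hp u⟩
  have h := key t (c * v)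
  rw [hi] at h
  rw [show (1 + c + c ^ 2) * v = c * (c * v) + (v + c * v) by ring, hr, hr]
  refine Eq.trans ?_ h
  ac_rfl

end Generic

variable {G : Type*} [Group G]

/-- A central extension of a group with Steinberg generators. -/
structure CExt {D : ChevalleyDatum} {C : Cert} {F : Type*} [Field F] {G : Type*} [Group G]
    (P : St.Pres D C F G) (E : Type*) [Group E] where
  /-- the projection -/
  π : E →* G
  hπ : Function.Surjective π
  hz : π.ker ≤ Subgroup.center E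
  hgen : P.gen {r | r < D.nroots} = ⊤

/-- A central extension together with a certificate for the field. -/
structure MExt {D : ChevalleyDatum} {C : Cert} {F : Type*} [Field F] {G : Type*} [Group G]
    (P : St.Pres D C F G) (E : Type*) [Group E] extends CExt P E where
  ok : OkMulti D C F

/-- A torus element scales the root subgroup by a scalar other than one. -/
def RootAt (P : St.Pres D C F G) (r : ℕ) : Prop :=
  ∃ g ∈ P.Hb, ∃ c : F, c ≠ 1 ∧ ∀ u, g * P.x r u * g⁻¹ = P.x r (c * u)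

/-- A torus element separates two root subgroups. -/
def SepAt (P : St.Pres D C F G) (r s : ℕ) : Prop :=
  ∃ g ∈ P.Hb, ∃ c : F, c ≠ 1 ∧
    ((∀ u, g * P.x r u * g⁻¹ = P.x r (c * u)) ∧ (∀ u, g * P.x s u * g⁻¹ = P.x s u) ∨
     (∀ u, g * P.x r u * g⁻¹ = P.x r u) ∧ (∀ u, g * P.x s u * g⁻¹ = P.x s (c * u)))

/-- A word moves a mixed pair to a pair of positive roots. -/
def MixAt (D : ChevalleyDatum) (C : Cert) (k s : ℕ) : Prop :=
  ∃ L : List ℕ, (∀ a ∈ L, a < D.rank) ∧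
    D.nroots / 2 ≤ (@List.rec ℕ (fun _ => ℕ → ℕ) (fun q => q) (fun a _ ih q => ih (C.w a q)) L (C.sr k)) ∧
    D.nroots / 2 ≤ (@List.rec ℕ (fun _ => ℕ → ℕ) (fun q => q) (fun a _ ih q => ih (C.w a q)) L s)

variable {P : St.Pres D C F G} {E : Type*} [Group E]

theorem com0_comm (P : St.Pres D C F G) {a b : ℕ} (h : com0 D a b = true) :
    a < D.nroots ∧ b < D.nroots ∧ ∀ t u : F, Commute (P.x a t) (P.x b u) := by
  simp only [com0, Bool.and_eq_true, blt_true, Bool.or_eq_true, Bool.not_eq_true'] at h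
  obtain ⟨⟨ha, hb⟩, h⟩ := h
  refine ⟨ha, hb, fun t u => ?_⟩
  by_cases e : b = a
  · subst e
    show P.x b t * P.x b u = P.x b u * P.x b t
    rw [P.hx b hb, P.hx b hb, add_comm]
  obtain ⟨h1, h2⟩ := h.resolve_left (fun h => e (Nat.eq_of_beq_eq_true h))
  have e2 : b ≠ D.neg a := by rw [P.neg_eq_rev ha]; exact Nat.ne_of_beq_eq_false h1
  have := P.hc a ha b hb e e2 t u
  have he : D.commTerms a b = [] := by
    rw [noTerms] at h2
    cases hL : D.commTerms a b with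
    | nil => rfl
    | cons q L => rw [hL] at h2; exact absurd h2 (by simp)
  rw [ChevalleyDatum.commWord, he, List.map_nil, List.map_nil, List.prod_nil, mul_assoc, ← mul_inv_rev,
    inv_mul_eq_one] at this
  exact this

/-- A product of `h̄_i` with given exponents. -/
noncomputable def hv (P : St.Pres D C F G) (e : List ℤ) (a : F) : G :=
  ((krange 0 D.rank).map fun i => P.hh (C.sr i) (a ^ e.getD i 0)).prod

theorem hv_mem (P : St.Pres D C F G) (e : List ℤ) {a : F} (ha : a ≠ 0) : hv P e a ∈ P.Hb := by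
  refine list_prod_mem fun g hg => ?_
  obtain ⟨i, hi, rfl⟩ := List.mem_map.1 hg
  rw [krange_eq, List.mem_range'_1] at hi
  exact P.hh_mem (by omega) (zpow_ne_zero _ ha)

theorem hv_conj (P : St.Pres D C F G) (e : List ℤ) {a : F} (ha : a ≠ 0) {r : ℕ} (hr : r < D.nroots) (u : F) :
    hv P e a * P.x r u * (hv P e a)⁻¹ = P.x r (a ^ wt D e r * u) := by
  suffices key : ∀ (L : List ℕ), (∀ i ∈ L, i < D.rank) → ∀ u : F,
      (L.map fun i => P.hh (C.sr i) (a ^ e.getD i 0)).prod * P.x r u *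
        ((L.map fun i => P.hh (C.sr i) (a ^ e.getD i 0)).prod)⁻¹ =
      P.x r (a ^ (@List.rec ℕ (fun _ => ℤ) 0 (fun i _ ih => e.getD i 0 * D.cartan i r + ih) L) * u) from
    key _ (fun i hi => by rw [krange_eq, List.mem_range'_1] at hi; omega) u
  intro L
  induction L with
  | nil => intro _ u; simp
  | cons i L ih =>
    intro hL u
    rw [List.map_cons, List.prod_cons, mul_inv_rev]
    set w := (L.map fun i => P.hh (C.sr i) (a ^ e.getD i 0)).prod
    rw [show P.hh (C.sr i) (a ^ e.getD i 0) * w * P.x r u * (w⁻¹ * (P.hh (C.sr i) (a ^ e.getD i 0))⁻¹) =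
      P.hh (C.sr i) (a ^ e.getD i 0) * (w * P.x r u * w⁻¹) * (P.hh (C.sr i) (a ^ e.getD i 0))⁻¹ by group,
      ih (fun j hj => hL j (List.mem_cons_of_mem _ hj)) u,
      P.hconj (hL i List.mem_cons_self) hr (zpow_ne_zero _ ha), ← mul_assoc, ← zpow_mul, ← zpow_add₀ ha]

theorem exists_scalar {Es Us : List ℕ} {gen : Bool} (hA : Adm F Es Us gen) {v : ℤ}
    (h : allowE Es v = true) : ∃ a : F, a ≠ 0 ∧ a ^ v ≠ 1 := by
  obtain ⟨m, hm, he⟩ := (kex_iff _ _).1 h
  have he' : v.natAbs = m := Nat.eq_of_beq_eq_true he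
  obtain ⟨a, ha, ha1⟩ := hA.exp m hm
  refine ⟨a, ha, ?_⟩
  rcases Int.natAbs_eq v with e | e <;> rw [e, he']
  · simpa using ha1
  · simpa using ha1

theorem exists_conj {Es Us : List ℕ} {gen : Bool} (hA : Adm F Es Us gen) (P : St.Pres D C F G) {e : List ℤ}
    {r : ℕ} (hr : r < D.nroots) (h : allowE Es (wt D e r) = true) :
    ∃ g ∈ P.Hb, (∃ c : F, c ≠ 1 ∧ ∀ u, g * P.x r u * g⁻¹ = P.x r (c * u)) ∧
      ∀ s < D.nroots, wt D e s = 0 → ∀ u, g * P.x s u * g⁻¹ = P.x s u := by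
  obtain ⟨a, ha, hne⟩ := exists_scalar hA h
  refine ⟨hv P e a, hv_mem P e ha, ⟨a ^ wt D e r, hne, hv_conj P e ha hr⟩, fun s hs h0 u => ?_⟩
  rw [hv_conj P e ha hs, h0, zpow_zero, one_mul]

theorem unit_conj (P : St.Pres D C F G) {e : List ℤ} {r : ℕ} (hr : r < D.nroots) {m : ℕ}
    (hm : (wt D e r).natAbs = m) {s : F} (hs : s ≠ 0) :
    ∃ g ∈ P.Hb, ∀ u, g * P.x r u * g⁻¹ = P.x r (s ^ m * u) := by
  rcases Int.natAbs_eq (wt D e r) with h | h
  · refine ⟨hv P e s, hv_mem P e hs, fun u => ?_⟩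
    rw [hv_conj P e hs hr, h, hm, zpow_natCast]
  · refine ⟨hv P e s⁻¹, hv_mem P e (inv_ne_zero hs), fun u => ?_⟩
    rw [hv_conj P e (inv_ne_zero hs) hr, h, hm, zpow_neg, zpow_natCast, inv_pow, inv_inv]

/-- The centre as a commutative group. -/
noncomputable local instance centreCommGroup {E' : Type*} [Group E'] : CommGroup (Subgroup.center E') :=
  { (Subgroup.center E').toGroup with mul_comm := fun a b => Subtype.ext (Subgroup.mem_center_iff.1 b.2 a.1) }

namespace CExt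

variable (X : CExt P E)
include X

/-- A lift of a generator. -/
noncomputable def lx (X : CExt P E) (r : ℕ) (t : F) : E := Function.surjInv X.hπ (P.x r t)

theorem π_lx (r : ℕ) (t : F) : X.π (X.lx r t) = P.x r t := Function.surjInv_eq X.hπ _

theorem central_diff {a b : E} (h : X.π a = X.π b) : ∃ z : E, (∀ y, y * z = z * y) ∧ a = b * z := by
  refine ⟨b⁻¹ * a, fun y => ?_, by group⟩
  have : b⁻¹ * a ∈ Subgroup.center E := X.hz (by rw [MonoidHom.mem_ker, map_mul, map_inv, h, inv_mul_cancel])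
  exact Subgroup.mem_center_iff.1 this y

theorem cm_congr {a a' b b' : E} (ha : X.π a = X.π a') (hb : X.π b = X.π b') : Ext.cm a b = Ext.cm a' b' := by
  obtain ⟨z, hz, rfl⟩ := X.central_diff ha
  obtain ⟨w, hw, rfl⟩ := X.central_diff hb
  exact Ext.cm_central hz hw

theorem comm_congr {a a' b b' : E} (ha : X.π a = X.π a') (hb : X.π b = X.π b') (h : Commute a b) :
    Commute a' b' := by
  have h1 : Ext.cm a' b' = 1 := by
    rw [← X.cm_congr ha hb, Ext.cm, mul_assoc (b⁻¹ * a⁻¹) b a, ← h.eq]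
    group
  rw [Ext.cm, mul_assoc, ← mul_inv_rev, inv_mul_eq_one] at h1
  exact h1

theorem kc_congr {a a' b b' : E} (ha : X.π a = X.π a') (hb : X.π b = X.π b') :
    a * b * a⁻¹ * b⁻¹ = a' * b' * a'⁻¹ * b'⁻¹ := by
  have h := X.cm_congr (a := b⁻¹) (a' := b'⁻¹) (b := a⁻¹) (b' := a'⁻¹) (by simp [hb]) (by simp [ha])
  simpa [Ext.cm] using h

/-- The lifts of two roots commute. -/
def Lc (X : CExt P E) (r s : ℕ) : Prop := ∀ t u : F, Commute (X.lx r t) (X.lx s u)

omit [Group E] X in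
theorem θ_comm {g h : G} (hg : g ∈ P.Hb) (hh : h ∈ P.Hb) : P.θ g * P.θ h = P.θ h * P.θ g := by
  have h1 := P.θ_Hb hg
  have h2 := P.θ_Hb hh
  rw [P.S.ok.diagonalSubgroup_eq] at h1 h2
  obtain ⟨a, ha⟩ := h1
  obtain ⟨b, hb⟩ := h2
  rw [← ha, ← hb, ← map_mul, ← map_mul, mul_comm]

theorem Hb_comm {g h : G} (hg : g ∈ P.Hb) (hh : h ∈ P.Hb) : g * h * g⁻¹ * h⁻¹ ∈ Subgroup.center G :=
  (P.kernel X.hgen (by
    rw [map_mul, map_mul, map_mul, θ_comm hg hh, map_inv, map_inv]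
    group)).2

theorem center_comm {a : E} (ha : X.π a ∈ Subgroup.center G) {r : ℕ} (hr : r < D.nroots) (hroot : RootAt P r)
    (t : F) :
    Commute a (X.lx r t) := by
  obtain ⟨g, -, c, hc, hconj⟩ := hroot
  have hc' : c - 1 ≠ 0 := sub_ne_zero.2 hc
  set H := Function.surjInv X.hπ g
  have hH : X.π H = g := Function.surjInv_eq X.hπ _
  set b := X.lx r ((c - 1)⁻¹ * t)
  have hπ : X.π (H * b * H⁻¹ * b⁻¹) = P.x r t := by
    rw [map_mul, map_mul, map_mul, map_inv, map_inv, hH, X.π_lx, hconj, P.x_inv hr, P.hx r hr]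
    congr 1
    field_simp
    ring
  have hfix : ∀ y, X.π (a * y * a⁻¹) = X.π y := fun y => by
    rw [map_mul, map_mul, map_inv, ← Subgroup.mem_center_iff.1 ha (X.π y), mul_inv_cancel_right]
  have h := X.kc_congr (hfix H) (hfix b)
  refine X.comm_congr rfl (hπ.trans (X.π_lx r t).symm) (mul_inv_eq_iff_eq_mul.1 (Eq.trans ?_ h))
  group

/-- A central value. -/
noncomputable def cv (X : CExt P E) {a b : E} (h : X.π (Ext.cm a b) = 1) : Subgroup.center E :=
  ⟨Ext.cm a b, X.hz h⟩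

omit X in
theorem cm_mul_left (a a' b : E) : Ext.cm (a * a') b = Ext.cm a' b * (a'⁻¹ * Ext.cm a b * a') := by
  simp only [Ext.cm]; group

omit X in
theorem cm_mul_right (a b b' : E) : Ext.cm a (b * b') = b'⁻¹ * Ext.cm a b * b' * Ext.cm a b' := by
  simp only [Ext.cm]; group

theorem π_cm_com {r s : ℕ} (h : ∀ t u : F, Commute (P.x r t) (P.x s u)) (t u : F) :
    X.π (Ext.cm (X.lx r t) (X.lx s u)) = 1 := by
  rw [Ext.cm, map_mul, map_mul, map_mul, map_inv, map_inv, X.π_lx, X.π_lx, mul_assoc _ (P.x s u), ← (h t u).eq]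
  group

theorem lc_of_cv {r s : ℕ} (h : ∀ t u : F, Commute (P.x r t) (P.x s u))
    (h1 : ∀ t u, X.cv (X.π_cm_com h t u) = 1) : X.Lc r s := by
  intro t u
  have e := congrArg Subtype.val (h1 t u)
  simp only [cv, Subgroup.coe_one, Ext.cm] at e
  rw [mul_assoc, ← mul_inv_rev, inv_mul_eq_one] at e
  exact e

theorem cv_add_left {r s : ℕ} (hr : r < D.nroots) (h : ∀ t u : F, Commute (P.x r t) (P.x s u)) (t t' u : F) :
    X.cv (X.π_cm_com h (t + t') u) = X.cv (X.π_cm_com h t u) * X.cv (X.π_cm_com h t' u) := by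
  refine Subtype.ext ?_
  show Ext.cm _ _ = Ext.cm _ _ * Ext.cm _ _
  have hz := X.hz (X.π_cm_com h t u)
  have e : X.π (X.lx r (t + t')) = X.π (X.lx r t * X.lx r t') := by
    rw [map_mul, X.π_lx, X.π_lx, X.π_lx, P.hx r hr]
  rw [X.cm_congr e rfl, cm_mul_left, Subgroup.mem_center_iff.1 hz (X.lx r t')⁻¹, mul_assoc, inv_mul_cancel,
    mul_one, ← Subgroup.mem_center_iff.1 hz]

theorem cv_add_right {r s : ℕ} (hs : s < D.nroots) (h : ∀ t u : F, Commute (P.x r t) (P.x s u)) (t u u' : F) :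
    X.cv (X.π_cm_com h t (u + u')) = X.cv (X.π_cm_com h t u) * X.cv (X.π_cm_com h t u') := by
  refine Subtype.ext ?_
  show Ext.cm _ _ = Ext.cm _ _ * Ext.cm _ _
  have hz := X.hz (X.π_cm_com h t u)
  have e : X.π (X.lx s (u + u')) = X.π (X.lx s u * X.lx s u') := by
    rw [map_mul, X.π_lx, X.π_lx, X.π_lx, P.hx s hs]
  rw [X.cm_congr rfl e, cm_mul_right, Subgroup.mem_center_iff.1 hz (X.lx s u')⁻¹, mul_assoc (Ext.cm _ _),
    inv_mul_cancel, mul_one]

theorem cv_invariant {r s : ℕ} (h : ∀ t u : F, Commute (P.x r t) (P.x s u)) {g : G} {c c' : F}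
    (h1 : ∀ u, g * P.x r u * g⁻¹ = P.x r (c * u)) (h2 : ∀ u, g * P.x s u * g⁻¹ = P.x s (c' * u)) (t u : F) :
    X.cv (X.π_cm_com h (c * t) (c' * u)) = X.cv (X.π_cm_com h t u) := by
  refine Subtype.ext ?_
  show Ext.cm _ _ = Ext.cm _ _
  set H := Function.surjInv X.hπ g
  have hH : X.π H = g := Function.surjInv_eq X.hπ _
  have e1 : X.π (X.lx r (c * t)) = X.π (H * X.lx r t * H⁻¹) := by
    rw [map_mul, map_mul, map_inv, hH, X.π_lx, X.π_lx, h1]
  have e2 : X.π (X.lx s (c' * u)) = X.π (H * X.lx s u * H⁻¹) := by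
    rw [map_mul, map_mul, map_inv, hH, X.π_lx, X.π_lx, h2]
  rw [X.cm_congr e1 e2, show Ext.cm (H * X.lx r t * H⁻¹) (H * X.lx s u * H⁻¹) =
    H * Ext.cm (X.lx r t) (X.lx s u) * H⁻¹ by simp only [Ext.cm]; group,
    Subgroup.mem_center_iff.1 (X.hz (X.π_cm_com h t u)) H, mul_inv_cancel_right]

/-- A root element commuting with both members of a decomposition. -/
theorem lc_of_decOK {Us : List ℕ} (hU : ∀ m ∈ Us, (m : F) ≠ 0) {r s : ℕ} {ab : ℕ × ℕ}
    (h : decOK D Us r s ab = true) : X.Lc s r := by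
  simp only [decOK, Bool.and_eq_true, Bool.not_eq_true'] at h
  obtain ⟨⟨⟨⟨e1, e2⟩, ha⟩, hb⟩, h⟩ := h
  split at h
  swap
  · exact absurd h Bool.false_ne_true
  rename_i q hq
  simp only [Bool.and_eq_true, Bool.or_eq_true, kex_iff] at h
  obtain ⟨⟨hqr, hij⟩, m, hm, hmc⟩ := h
  obtain ⟨-, hal, ha'⟩ := com0_comm P ha
  obtain ⟨-, hbl, hb'⟩ := com0_comm P hb
  have hc0 : (q.2.1 : F) ≠ 0 := by
    have := hU m hm
    rw [← Nat.eq_of_beq_eq_true hmc] at this
    rcases Int.natAbs_eq q.2.1 with e | e <;> rw [e] <;> simpa using this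
  intro t v
  obtain ⟨t0, u0, hv⟩ : ∃ t0 u0 : F, (q.2.1 : F) * (-t0) ^ q.2.2.1 * u0 ^ q.2.2.2 = v := by
    rcases hij with e | e
    · refine ⟨-((q.2.1 : F)⁻¹ * v), 1, ?_⟩
      rw [Nat.eq_of_beq_eq_true e, pow_one, one_pow, mul_one, neg_neg, mul_inv_cancel_left₀ hc0]
    · refine ⟨-1, (q.2.1 : F)⁻¹ * v, ?_⟩
      rw [Nat.eq_of_beq_eq_true e, pow_one, neg_neg, one_pow, mul_one, mul_inv_cancel_left₀ hc0]
  set S := X.lx s t
  have hfix : ∀ {k : ℕ} {w : F}, (∀ t u : F, Commute (P.x s t) (P.x k u)) →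
      X.π (S * X.lx k w * S⁻¹) = X.π (X.lx k w) := fun {k w} hk => by
    rw [map_mul, map_mul, map_inv, X.π_lx, X.π_lx, (hk t w).eq, mul_inv_cancel_right]
  have e : S * Ext.cm (X.lx ab.1 t0) (X.lx ab.2 u0) * S⁻¹ = Ext.cm (X.lx ab.1 t0) (X.lx ab.2 u0) := by
    rw [show S * Ext.cm (X.lx ab.1 t0) (X.lx ab.2 u0) * S⁻¹ =
      Ext.cm (S * X.lx ab.1 t0 * S⁻¹) (S * X.lx ab.2 u0 * S⁻¹) by simp only [Ext.cm]; group]
    exact X.cm_congr (hfix ha') (hfix hb')
  refine X.comm_congr rfl ?_ (mul_inv_eq_iff_eq_mul.1 e)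
  have hne : ab.2 ≠ D.neg ab.1 := by rw [P.neg_eq_rev hal]; exact Nat.ne_of_beq_eq_false e2
  rw [Ext.cm, map_mul, map_mul, map_mul, map_inv, map_inv, X.π_lx, X.π_lx, X.π_lx,
    P.hc _ hal _ hbl (Nat.ne_of_beq_eq_false e1) hne, ChevalleyDatum.commWord, hq, List.map_singleton,
    List.map_singleton, List.prod_singleton, hv, Nat.eq_of_beq_eq_true hqr]

theorem exists_psi {r : ℕ} (hr : r < D.nroots) (hroot : RootAt P r) (hself : X.Lc r r) :
    ∃ f : F → E, (∀ t, X.π (f t) = P.x r t) ∧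
    (∀ t u, f (t + u) = f t * f u) ∧
    ∀ (H a : E) (v w : F), X.π H ∈ P.Hb → X.π a = P.x r v → X.π (H * a * H⁻¹) = P.x r w →
      H * a * H⁻¹ * a⁻¹ = f (w - v) := by
  obtain ⟨g, hg, c, hc, hconj⟩ := hroot
  have hc' : c - 1 ≠ 0 := sub_ne_zero.2 hc
  set H₀ := Function.surjInv X.hπ g
  have hH₀ : X.π H₀ = g := Function.surjInv_eq X.hπ _
  have hlift : ∀ b v, X.π b = P.x r v → X.π (H₀ * b * H₀⁻¹) = P.x r (c * v) := fun b v hb => by
    rw [map_mul, map_mul, map_inv, hH₀, hb, hconj]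
  set f : F → E := fun t => H₀ * X.lx r ((c - 1)⁻¹ * t) * H₀⁻¹ * (X.lx r ((c - 1)⁻¹ * t))⁻¹
  have hfπ : ∀ t, X.π (f t) = P.x r t := fun t => by
    show X.π (H₀ * _ * H₀⁻¹ * _) = _
    rw [map_mul, hlift _ _ (X.π_lx r _), map_inv, X.π_lx, P.x_inv hr, P.hx r hr]
    congr 1
    field_simp
    ring
  have hadd : ∀ t u, f (t + u) = f t * f u := fun t u => by
    have e : X.π (X.lx r ((c - 1)⁻¹ * (t + u))) =
        X.π (X.lx r ((c - 1)⁻¹ * t) * X.lx r ((c - 1)⁻¹ * u)) := by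
      rw [map_mul, X.π_lx, X.π_lx, X.π_lx, P.hx r hr, mul_add]
    show H₀ * _ * H₀⁻¹ * _ = _
    rw [X.kc_congr rfl e]
    have hcm : Commute (f u) (X.lx r ((c - 1)⁻¹ * t))⁻¹ :=
      (X.comm_congr (((X.π_lx r u).trans (hfπ u).symm)) rfl (hself u _)).inv_right
    show H₀ * (X.lx r ((c - 1)⁻¹ * t) * X.lx r ((c - 1)⁻¹ * u)) * H₀⁻¹ *
      (X.lx r ((c - 1)⁻¹ * t) * X.lx r ((c - 1)⁻¹ * u))⁻¹ = f t * f u
    calc _ = H₀ * X.lx r ((c - 1)⁻¹ * t) * H₀⁻¹ * f u * (X.lx r ((c - 1)⁻¹ * t))⁻¹ := by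
          simp only [f]; group
      _ = f t * f u := by rw [mul_assoc _ (f u), hcm.eq, ← mul_assoc]
  have h0 : f 0 = 1 := by
    have := hadd 0 0
    rw [add_zero] at this
    exact mul_eq_left.1 this.symm
  refine ⟨f, hfπ, hadd, fun H a v w hH ha hw => ?_⟩
  obtain ⟨c', hc1, -⟩ := P.mon_Hb hH
  set k := c' ⟨r, hr⟩
  have hk : ∀ u, X.π H * P.x r u * (X.π H)⁻¹ = P.x r (k * u) := hc1 ⟨r, hr⟩
  have hwv : w = k * v := by
    rw [map_mul, map_mul, map_inv, ha, hk] at hw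
    have := congrArg P.θ hw
    rw [P.hθ r hr, P.hθ r hr] at this
    exact (P.x_inj hr this).symm
  have equi : ∀ u, H * f u * H⁻¹ = f (k * u) := by
    intro u
    set z := H * H₀ * H⁻¹ * H₀⁻¹
    have hz : X.π z ∈ Subgroup.center G := by
      rw [map_mul, map_mul, map_mul, map_inv, map_inv, hH₀]
      exact X.Hb_comm hH hg
    set b := X.lx r ((c - 1)⁻¹ * u)
    set b' := X.lx r ((c - 1)⁻¹ * (k * u))
    have hb : X.π (H * b * H⁻¹) = X.π b' := by
      rw [map_mul, map_mul, map_inv, X.π_lx, X.π_lx, hk]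
      congr 1
      ring
    have hcm : Commute z (H₀ * b' * H₀⁻¹) :=
      X.comm_congr rfl ((X.π_lx r _).trans (hlift b' _ (X.π_lx r _)).symm) (X.center_comm hz hr ⟨g, hg, c, hc, hconj⟩ _)
    calc H * f u * H⁻¹ = (z * H₀) * (H * b * H⁻¹) * (z * H₀)⁻¹ * (H * b * H⁻¹)⁻¹ := by
          simp only [f, z, b]; group
      _ = (z * H₀) * b' * (z * H₀)⁻¹ * b'⁻¹ := X.kc_congr rfl hb
      _ = z * (H₀ * b' * H₀⁻¹) * z⁻¹ * b'⁻¹ := by group
      _ = f (k * u) := by rw [hcm.eq, mul_inv_cancel_right]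
  rw [X.kc_congr rfl (ha.trans (hfπ v).symm), equi, hwv]
  refine mul_inv_eq_iff_eq_mul.2 ?_
  rw [← hadd, sub_add_cancel]

end CExt

namespace MExt

variable (X : MExt P E)
include X

theorem root_data {r : ℕ} (hr : r < D.nroots) :
    RootAt P r := by
  obtain ⟨Es, Us, gen, B, hB, hA⟩ := X.ok
  simp only [okMulti, Bool.and_eq_true] at hB
  have h := kall_krange hB.1.1 r hr
  simp only [okRoot, Bool.and_eq_true, kex_iff] at h
  obtain ⟨e, -, he⟩ := h.1
  obtain ⟨g, hg, hc, -⟩ := exists_conj hA P hr he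
  exact ⟨g, hg, hc⟩

theorem lc_self {r : ℕ} (hr : r < D.nroots) : X.Lc r r := by
  obtain ⟨Es, Us, gen, B, hB, hA⟩ := X.ok
  simp only [okMulti, Bool.and_eq_true] at hB
  have h := kall_krange hB.1.1 r hr
  simp only [okRoot, Bool.and_eq_true, Bool.or_eq_true, kex_iff, decide_eq_true_eq] at h
  have hcom : ∀ t u : F, Commute (P.x r t) (P.x r u) := fun t u => by
    show P.x r t * P.x r u = P.x r u * P.x r t
    rw [P.hx r hr, P.hx r hr, add_comm]
  have hpair : ∀ {e : List ℤ} {m : ℕ} {c : F}, (wt D e r).natAbs = m → ∀ s : F, s ≠ 0 → s ^ m = c →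
      ∀ t u, X.cv (X.π_cm_com hcom (c * t) (c * u)) = X.cv (X.π_cm_com hcom t u) := by
    intro e m c hm s hs hsc t u
    obtain ⟨g, -, hg⟩ := unit_conj P hr hm hs
    rw [hsc] at hg
    exact X.cv_invariant hcom hg hg t u
  rcases h.2 with (⟨ab, -, hd⟩ | ⟨hgen, e, -, he⟩) | ⟨⟨hgen, e, -, he⟩, ab, -, hd⟩
  · exact X.lc_of_decOK hA.coe hd
  · obtain ⟨c, hc, hc1, hc2⟩ := hA.one hgen
    exact X.lc_of_cv hcom fun t u => triv_pair (fun t u => X.cv (X.π_cm_com hcom t u))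
      (X.cv_add_left hr hcom) (X.cv_add_right hr hcom) hc2 (hpair he c hc (pow_one c))
      (hpair he (1 + c) hc1 (pow_one _)) t u
  · by_cases h2 : (2 : F) = 0
    · obtain ⟨s, hs, hs1, hs2⟩ := (hA.two hgen).resolve_left (not_not.2 h2)
      have hsq : (1 + s) ^ 2 = 1 + s ^ 2 := by linear_combination s * h2
      have hs' : (1 + s) ≠ 0 := fun h => hs1 (by rw [← hsq, h]; ring)
      exact X.lc_of_cv hcom fun t u => triv_pair (fun t u => X.cv (X.π_cm_com hcom t u))
        (X.cv_add_left hr hcom) (X.cv_add_right hr hcom) (c := s ^ 2) (by rw [← pow_mul]; exact hs2)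
        (hpair he s hs rfl) (hpair he (1 + s) hs' hsq) t u
    · exact X.lc_of_decOK (Us := [2]) (fun m hm => by simpa [List.mem_singleton.1 hm] using h2) hd

/-- The certificate for a pair. -/
theorem pair_data {r s : ℕ} (hr : r < D.nroots) (hs : s < D.nroots) (h1 : s ≠ r) (h2 : s ≠ D.neg r) :
    (D.commTerms r s = [] ∧ X.Lc r s) ∨
      (D.nroots / 2 ≤ r → D.nroots / 2 ≤ s → SepAt P r s) := by
  obtain ⟨Es, Us, gen, B, hB, hA⟩ := X.ok
  simp only [okMulti, Bool.and_eq_true] at hB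
  have h := kall_krange (kall_krange hB.1.2 r hr) s hs
  have e1 : Nat.beq s r = false := Bool.eq_false_iff.2 fun e => h1 (Nat.eq_of_beq_eq_true e)
  have e2 : Nat.beq s (rev D r) = false := Bool.eq_false_iff.2 fun e =>
    h2 (by rw [P.neg_eq_rev hr]; exact Nat.eq_of_beq_eq_true e)
  rw [e1, e2, Bool.false_or, Bool.false_or] at h
  have hsym : X.Lc s r → X.Lc r s := fun h t u => (h u t).symm
  cases hn : noTerms D r s with
  | true =>
    rw [hn] at h
    have he : D.commTerms r s = [] := by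
      rw [noTerms] at hn
      cases hL : D.commTerms r s with
      | nil => rfl
      | cons q L => rw [hL] at hn; exact absurd hn (by simp)
    have hcom : ∀ t u : F, Commute (P.x r t) (P.x s u) := fun t u => by
      have := P.hc r hr s hs h1 h2 t u
      rw [ChevalleyDatum.commWord, he, List.map_nil, List.map_nil, List.prod_nil, mul_assoc, ← mul_inv_rev,
        inv_mul_eq_one] at this
      exact this
    refine Or.inl ⟨he, ?_⟩
    simp only [okCom, Bool.or_eq_true, kex_iff, Bool.and_eq_true, decide_eq_true_eq] at h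
    rcases h with ((⟨e, -, h0, ha⟩ | ⟨e, -, h0, ha⟩) | ⟨ab, -, hd⟩) | ⟨ab, -, hd⟩
    · obtain ⟨g, -, ⟨c, hc, hgr⟩, hgs⟩ := exists_conj hA P hr ha
      refine X.lc_of_cv hcom fun t u => triv_scalar (fun t u => X.cv (X.π_cm_com hcom t u))
        (X.cv_add_left hr hcom) hc (fun t u => ?_) t u
      have := X.cv_invariant hcom (c' := 1) hgr (fun u => by rw [hgs s hs h0, one_mul]) t u
      simpa only [one_mul] using this
    · obtain ⟨g, -, ⟨c, hc, hgs⟩, hgr⟩ := exists_conj hA P hs ha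
      refine X.lc_of_cv hcom fun t u => triv_scalar (fun u t => X.cv (X.π_cm_com hcom t u))
        (fun a b v => X.cv_add_right hs hcom v a b) hc (fun u t => ?_) u t
      have := X.cv_invariant hcom (c := 1) (fun u => by rw [hgr r hr h0, one_mul]) hgs t u
      simpa only [one_mul] using this
    · exact hsym (X.lc_of_decOK hA.coe hd)
    · exact X.lc_of_decOK hA.coe hd
  | false =>
    refine Or.inr fun hrp hsp => ?_
    rw [hn] at h
    have hr' : Nat.ble (Nat.div D.nroots 2) r = true := Nat.ble_eq_true_of_le hrp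
    have hs' : Nat.ble (Nat.div D.nroots 2) s = true := Nat.ble_eq_true_of_le hsp
    simp only [hr', hs', beq_self_eq_true, Bool.not_true, Bool.false_or] at h
    simp only [okTerm, Bool.or_eq_true, kex_iff, Bool.and_eq_true, decide_eq_true_eq] at h
    rcases h with ⟨e, -, h0, ha⟩ | ⟨e, -, h0, ha⟩
    · obtain ⟨g, hg, ⟨c, hc, hgr⟩, hgs⟩ := exists_conj hA P hr ha
      exact ⟨g, hg, c, hc, Or.inl ⟨hgr, hgs s hs h0⟩⟩
    · obtain ⟨g, hg, ⟨c, hc, hgs⟩, hgr⟩ := exists_conj hA P hs ha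
      exact ⟨g, hg, c, hc, Or.inr ⟨hgr r hr h0, hgs⟩⟩

theorem mix_data {k : ℕ} (hk : k < D.rank) {s : ℕ} (hs : s < D.nroots) (hsp : ¬ D.nroots / 2 ≤ s)
    (h2 : s ≠ D.neg (C.sr k)) : MixAt D C k s := by
  obtain ⟨Es, Us, gen, B, hB, -⟩ := X.ok
  simp only [okMulti, Bool.and_eq_true] at hB
  have h := kall_krange (kall_krange hB.2 k hk) s hs
  simp only [okMix, Bool.or_eq_true, kex_iff, Bool.and_eq_true, kall_iff, blt_true] at h
  rcases h with (h | h) | ⟨x, -, ⟨⟨⟨-, -⟩, h4⟩, h5⟩, h6⟩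
  · exact absurd (Nat.le_of_ble_eq_true h) hsp
  · exact absurd (by rw [P.neg_eq_rev (P.sr_lt hk)]; exact Nat.eq_of_beq_eq_true h) h2
  · exact ⟨x.2, h4, Nat.le_of_ble_eq_true h5, Nat.le_of_ble_eq_true h6⟩

end MExt

end Cfsg.Lib.Chev.Univ.Multi
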