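import Cfsg.Agent.Chev.Univ.Multi.Lift
import Cfsg.Prelude.Def_SteinbergCover

/-! The canonical lifts satisfy Steinberg's commutator relations. -/

set_option autoImplicit false

open Cfsg.Lie

namespace Cfsg.Lib.Chev.Univ.Multi

/-- The centre as a commutative group. -/
noncomputable local instance centreCommGroup' {E' : Type*} [Group E'] : CommGroup (Subgroup.center E') :=
  { (Subgroup.center E').toGroup with mul_comm := fun a b => Subtype.ext (Subgroup.mem_center_iff.1 b.2 a.1) }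

theorem defect_left {E : Type*} [Group E] {z z' w : Subgroup.center E} {A B R a : E}
    (e : (z' : E) * B * (a⁻¹ * ((z : E) * A) * a) = (w : E) * R) :
    B * (a⁻¹ * A * a) = ((w * (z * z')⁻¹ : Subgroup.center E) : E) * R := by
  have hz : ∀ y : E, y * (z : E) = (z : E) * y := fun y => Subgroup.mem_center_iff.1 z.2 y
  rw [← mul_assoc a⁻¹ (z : E), hz a⁻¹, mul_assoc (z : E) a⁻¹, mul_assoc (z : E), ← mul_assoc ((z' : E) * B),
    mul_assoc (z' : E) B, hz B, ← mul_assoc (z' : E), mul_assoc ((z' : E) * z) B] at e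
  rw [mul_comm w, Subgroup.coe_mul, mul_assoc _ (w : E) R, ← e, mul_comm z, Subgroup.coe_inv, Subgroup.coe_mul]
  group

theorem defect_right {E : Type*} [Group E] {z z' w : Subgroup.center E} {A B R a : E}
    (e : a⁻¹ * ((z : E) * A) * a * ((z' : E) * B) = (w : E) * R) :
    a⁻¹ * A * a * B = ((w * (z * z')⁻¹ : Subgroup.center E) : E) * R := by
  have hz : ∀ y : E, y * (z : E) = (z : E) * y := fun y => Subgroup.mem_center_iff.1 z.2 y
  have hz' : ∀ y : E, y * (z' : E) = (z' : E) * y := fun y => Subgroup.mem_center_iff.1 z'.2 y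
  rw [← mul_assoc a⁻¹ (z : E), hz a⁻¹, mul_assoc (z : E) a⁻¹, mul_assoc (z : E), mul_assoc (z : E),
    ← mul_assoc (a⁻¹ * A * a), hz' (a⁻¹ * A * a), mul_assoc (z' : E), ← mul_assoc (z : E)] at e
  rw [mul_comm w, Subgroup.coe_mul, mul_assoc _ (w : E) R, ← e, Subgroup.coe_inv, Subgroup.coe_mul]
  group

variable {D : ChevalleyDatum} {C : Cert} {F : Type*} [Field F] {G : Type*} [Group G]
variable {P : St.Pres D C F G} {E : Type*} [Group E]

/-- Chosen lifts, equivariant under the torus and the fundamental reflections, with data for every pair. -/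
structure LExt {D : ChevalleyDatum} {C : Cert} {F : Type*} [Field F] {G : Type*} [Group G]
    (P : St.Pres D C F G) (E : Type*) [Group E] extends CExt P E where
  /-- the lifts -/
  ps : ℕ → F → E
  ps_π : ∀ {r : ℕ}, r < D.nroots → ∀ t, π (ps r t) = P.x r t
  ps_add : ∀ {r : ℕ}, r < D.nroots → ∀ t u, ps r (t + u) = ps r t * ps r u
  ps_torus : ∀ {r : ℕ}, r < D.nroots → ∀ {H : E}, π H ∈ P.Hb → ∀ {t w : F},
    π H * P.x r t * (π H)⁻¹ = P.x r w → H * ps r t * H⁻¹ = ps r w
  ps_nn : ∀ {i r : ℕ}, i < D.rank → r < D.nroots → ∀ (t : F) {N : E}, π N = P.nn (C.sr i) 1 →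
    N * ps r t * N⁻¹ = ps (C.w i r) ((C.eta i r : F) * t)
  pair : ∀ {r s : ℕ}, r < D.nroots → s < D.nroots → s ≠ r → s ≠ D.neg r →
    (D.commTerms r s = [] ∧ toCExt.Lc r s) ∨ (D.nroots / 2 ≤ r → D.nroots / 2 ≤ s → SepAt P r s ∨
      ∀ t u, Ext.cm (ps r t) (ps s u) = ((D.commWord F r s t u).map fun p => ps p.1 p.2).prod)
  mix : ∀ {k : ℕ}, k < D.rank → ∀ {s : ℕ}, s < D.nroots → ¬ D.nroots / 2 ≤ s → s ≠ D.neg (C.sr k) → MixAt D C k s

namespace LExt

variable (X : LExt P E)
include X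

theorem ps_zero {r : ℕ} (hr : r < D.nroots) : X.ps r 0 = 1 := by
  have := X.ps_add hr 0 0
  rw [add_zero] at this
  exact mul_eq_left.1 this.symm

theorem ps_inv {r : ℕ} (hr : r < D.nroots) (t : F) : (X.ps r t)⁻¹ = X.ps r (-t) := by
  rw [inv_eq_iff_mul_eq_one, ← X.ps_add hr, add_neg_cancel, X.ps_zero hr]

/-- The product over Steinberg's word. -/
noncomputable def W (X : LExt P E) (r s : ℕ) (t u : F) : E :=
  ((D.commWord F r s t u).map fun p => X.ps p.1 p.2).prod

/-- The relation for a pair of roots. -/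
def Rel (X : LExt P E) (r s : ℕ) : Prop := ∀ t u, Ext.cm (X.ps r t) (X.ps s u) = X.W r s t u

theorem word_lt {r s : ℕ} (hr : r < D.nroots) (hs : s < D.nroots) {t u : F} {p : ℕ × F}
    (hp : p ∈ D.commWord F r s t u) : p.1 < D.nroots := by
  simp only [ChevalleyDatum.commWord, List.mem_map] at hp
  obtain ⟨q, hq, rfl⟩ := hp
  exact Ok.commTerms_lt P.S.chain hr hs hq

theorem π_W {r s : ℕ} (hr : r < D.nroots) (hs : s < D.nroots) (h1 : s ≠ r) (h2 : s ≠ D.neg r) (t u : F) :
    X.π (X.W r s t u) = X.π (Ext.cm (X.ps r t) (X.ps s u)) := by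
  rw [Ext.cm, map_mul, map_mul, map_mul, map_inv, map_inv, X.ps_π hr, X.ps_π hs, P.hc r hr s hs h1 h2, W,
    map_list_prod, List.map_map]
  exact congrArg List.prod (List.map_congr_left fun p hp => X.ps_π (X.word_lt hr hs hp) _)

theorem conj_ps_step {a b : ℕ} (ha : a < D.nroots) (h : X.Rel a b) (t u : F) :
    X.ps a t * X.ps b u * (X.ps a t)⁻¹ = X.ps b u * X.W a b (-t) u := by
  rw [← h (-t) u, Ext.cm, ← X.ps_inv ha, inv_inv]
  group

theorem rel_pos : ∀ (m r s : ℕ), r < D.nroots → s < D.nroots → D.nroots / 2 ≤ r → D.nroots / 2 ≤ s → s ≠ r →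
    2 * D.nroots ≤ r + s + m → X.Rel r s := by
  intro m
  induction m with
  | zero => intro r s hr hs _ _ _ hm; omega
  | succ m ih =>
    intro r s hr hs hrp hsp hne hm
    have hsum := P.half_add
    have hneg : ∀ {a b : ℕ}, D.nroots / 2 ≤ a → a < D.nroots → D.nroots / 2 ≤ b → b ≠ D.neg a :=
      fun {a b} ha ha' hb => by rw [P.neg_eq_rev ha']; omega
    have h2 := hneg hrp hr hsp
    rcases X.pair hr hs hne h2 with ⟨he, hl⟩ | hterm
    · intro t u
      rw [W, ChevalleyDatum.commWord, he, List.map_nil, List.map_nil, List.prod_nil,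
        X.cm_congr ((X.ps_π hr t).trans (X.π_lx r t).symm) ((X.ps_π hs u).trans (X.π_lx s u).symm), Ext.cm,
        mul_assoc _ (X.lx s u), ← (hl t u).eq]
      group
    rcases hterm hrp hsp with ⟨g, hg, c, hc, hcase⟩ | hrel
    swap
    · exact hrel
    set M := max r s with hM
    set L := List.range' (M + 1) (D.nroots - (M + 1)) with hL
    have hmem : ∀ {q : ℕ}, q ∈ L ↔ M + 1 ≤ q ∧ q < D.nroots := fun {q} => by
      rw [hL, List.mem_range'_1]; omega
    set S := span X.ps {q | q ∈ L} with hS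
    -- conjugation by roots not below `min r s`
    have hstep : ∀ a, D.nroots / 2 ≤ a → a < D.nroots → min r s ≤ a → ∀ b ∈ L, b ≠ a → ∀ t u,
        X.ps a t * X.ps b u * (X.ps a t)⁻¹ = X.ps b u * X.W a b (-t) u ∧
          ∀ q ∈ D.commTerms a b, max a b < q.1 ∧ q.1 < D.nroots := by
      intro a hap ha hmin b hb hba t u
      obtain ⟨hb1, hb2⟩ := hmem.1 hb
      refine ⟨X.conj_ps_step ha (ih a b ha hb2 hap (by omega) hba (by omega)) t u, fun q hq => ?_⟩
      obtain ⟨q1, q2, q3⟩ := P.S.commTerms_gt ha hb2 hap (by omega) hq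
      exact ⟨max_lt q1 q2, q3⟩
    have hnorm : ∀ a, D.nroots / 2 ≤ a → a < D.nroots → min r s ≤ a → (∀ b ∈ L, b ≠ a) → ∀ t, ∀ y ∈ S,
        X.ps a t * y * (X.ps a t)⁻¹ ∈ S := by
      intro a hap ha hmin hnot t y hy
      refine conj_span X.ps (fun b hb u => ?_) hy
      obtain ⟨e, hq⟩ := hstep a hap ha hmin b hb (hnot b hb) t u
      rw [e]
      refine mul_mem (mem_span X.ps hb u) (list_prod_mem fun z hz => ?_)
      obtain ⟨p, hp, rfl⟩ := List.mem_map.1 hz
      obtain ⟨q, hq', e'⟩ := P.commWord_idx _ _ hp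
      obtain ⟨hb1, hb2⟩ := hmem.1 hb
      refine mem_span X.ps (hmem.2 ?_) _
      rw [← e']
      exact ⟨by have := (hq q hq').1; omega, (hq q hq').2⟩
    -- the projection is injective on `S`
    have hinj : ∀ y ∈ S, X.π y = 1 → y = 1 := by
      intro y hy h1
      obtain ⟨f, rfl⟩ := ordered_prod X.ps L (List.nodup_range' ..) (fun q hq t u =>
        (X.ps_add (hmem.1 hq).2 t u).symm) (fun A a N e b hb t u => by
          have hp := List.pairwise_lt_range' (s := M + 1) (n := D.nroots - (M + 1)) (step := 1) (by omega)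
          rw [← hL, e] at hp
          have hab : a < b := List.rel_of_pairwise_cons (List.pairwise_append.1 hp).2.1 hb
          have ha : a ∈ L := by rw [e]; simp
          have hb' : b ∈ L := by rw [e]; simp [hb]
          obtain ⟨ha1, ha2⟩ := hmem.1 ha
          obtain ⟨e1, hq⟩ := hstep a (by omega) ha2 (by omega) b hb' (by omega) t u
          rw [e1]
          refine mul_mem (mem_span X.ps (A := {x | x ∈ N}) hb u) (list_prod_mem fun z hz => ?_)
          obtain ⟨p, hp', rfl⟩ := List.mem_map.1 hz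
          obtain ⟨q, hq', e'⟩ := P.commWord_idx _ _ hp'
          refine mem_span X.ps (A := {x | x ∈ N}) ?_ _
          rw [← e']
          have hq1 := hq q hq'
          have : q.1 ∈ L := hmem.2 ⟨by omega, hq1.2⟩
          rw [e, List.mem_append, List.mem_cons] at this
          rcases this with hA | hA | hN
          · have := (List.pairwise_append.1 hp).2.2 q.1 hA a List.mem_cons_self
            omega
          · omega
          · exact hN) y hy
      have h2' := congrArg P.θ h1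
      rw [map_one, map_list_prod, List.map_map, map_list_prod, List.map_map] at h2'
      have e : (L.map (P.θ ∘ X.π ∘ fun q => X.ps q (f q))).prod = P.S.pw (M + 1) f := by
        rw [Struct.pw]
        exact congrArg List.prod (List.map_congr_left fun q hq => by
          simp only [Function.comp_apply]; rw [X.ps_π (hmem.1 hq).2, P.hθ q (hmem.1 hq).2])
      have e0 : P.S.pw (M + 1) (0 : ℕ → F) = 1 := by simp [Struct.pw]
      rw [e, ← e0] at h2'
      have ht := P.S.pw_inj (D.nroots - (M + 1)) (M + 1) (by omega) (by omega) f 0 h2'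
      refine List.prod_eq_one fun z hz => ?_
      obtain ⟨q, hq, rfl⟩ := List.mem_map.1 hz
      rw [ht q (hmem.1 hq).1 (hmem.1 hq).2, Pi.zero_apply, X.ps_zero (hmem.1 hq).2]
    have hW : ∀ t u, X.W r s t u ∈ S := fun t u => by
      refine list_prod_mem fun z hz => ?_
      obtain ⟨p, hp, rfl⟩ := List.mem_map.1 hz
      obtain ⟨q, hq', e'⟩ := P.commWord_idx _ _ hp
      obtain ⟨q1, q2, q3⟩ := P.S.commTerms_gt hr hs hrp hsp hq'
      exact mem_span X.ps (hmem.2 (by rw [← e']; omega)) _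
    -- the defect
    let Φ : F → F → Subgroup.center E := fun t u => ⟨Ext.cm (X.ps r t) (X.ps s u) * (X.W r s t u)⁻¹,
      X.hz (by rw [MonoidHom.mem_ker, map_mul, map_inv, X.π_W hr hs hne h2, mul_inv_cancel])⟩
    have hcm : ∀ t u, Ext.cm (X.ps r t) (X.ps s u) = (Φ t u : E) * X.W r s t u := fun t u => by
      simp only [Φ]; group
    have hcomm : ∀ t u (y : E), y * (Φ t u : E) = (Φ t u : E) * y := fun t u y =>
      Subgroup.mem_center_iff.1 (Φ t u).2 y
    have hdef : ∀ (z : Subgroup.center E) (y y' : E), y ∈ S → y' ∈ S → y = (z : E) * y' → (z : E) ∈ X.π.ker →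
        z = 1 := fun z y y' hy hy' e hz => Subtype.ext (hinj (z : E) (by
      have : (z : E) = y * y'⁻¹ := by rw [e]; group
      rw [this]; exact mul_mem hy (inv_mem hy')) hz)
    have hker : ∀ t u, (Φ t u : E) ∈ X.π.ker := fun t u => by
      rw [MonoidHom.mem_ker]
      show X.π (Ext.cm (X.ps r t) (X.ps s u) * (X.W r s t u)⁻¹) = 1
      rw [map_mul, map_inv, X.π_W hr hs hne h2, mul_inv_cancel]
    have hnot : ∀ b ∈ L, b ≠ r ∧ b ≠ s := fun b hb => by have := hmem.1 hb; omega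
    have hl : ∀ t t' u, Φ (t + t') u = Φ t u * Φ t' u := fun t t' u => by
      have hy := mul_mem (hW t' u) (hnorm r hrp hr (min_le_left _ _) (fun b hb => (hnot b hb).1) (-t') _ (hW t u))
      rw [← X.ps_inv hr, inv_inv] at hy
      have e := hcm (t + t') u
      rw [X.ps_add hr, CExt.cm_mul_left, hcm, hcm t u] at e
      refine (mul_inv_eq_one.1 (hdef (Φ (t + t') u * (Φ t u * Φ t' u)⁻¹) _ _ hy (hW (t + t') u) ?_ ?_))
      · exact defect_left e
      · simp only [Subgroup.coe_mul, Subgroup.coe_inv]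
        exact mul_mem (hker _ _) (inv_mem (mul_mem (hker _ _) (hker _ _)))
    have hr' : ∀ t u u', Φ t (u + u') = Φ t u * Φ t u' := fun t u u' => by
      have hy := mul_mem (hnorm s hsp hs (min_le_right _ _) (fun b hb => (hnot b hb).2) (-u') _ (hW t u)) (hW t u')
      rw [← X.ps_inv hs, inv_inv] at hy
      have e := hcm t (u + u')
      rw [X.ps_add hs, CExt.cm_mul_right, hcm, hcm t u'] at e
      refine (mul_inv_eq_one.1 (hdef (Φ t (u + u') * (Φ t u * Φ t u')⁻¹) _ _ hy (hW t (u + u')) ?_ ?_))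
      · exact defect_right e
      · simp only [Subgroup.coe_mul, Subgroup.coe_inv]
        exact mul_mem (hker _ _) (inv_mem (mul_mem (hker _ _) (hker _ _)))
    have hinv : ∀ {a b : F}, (∀ v, g * P.x r v * g⁻¹ = P.x r (a * v)) → (∀ v, g * P.x s v * g⁻¹ = P.x s (b * v)) →
        ∀ t u, Φ (a * t) (b * u) = Φ t u := by
      intro a b ha hb t u
      set H := Function.surjInv X.hπ g
      have hH : X.π H = g := Function.surjInv_eq X.hπ _
      have hH' : X.π H ∈ P.Hb := hH ▸ hg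
      have hy : H * X.W r s t u * H⁻¹ ∈ S := conj_span X.ps (fun q hq v => by
        obtain ⟨k, hk, -⟩ := P.mon_Hb hH'
        have hq2 := (hmem.1 hq).2
        rw [X.ps_torus hq2 hH' (w := k ⟨q, hq2⟩ * v) (hk ⟨q, hq2⟩ v)]
        exact mem_span X.ps hq _) (hW t u)
      have e := hcm (a * t) (b * u)
      rw [← X.ps_torus hr hH' (w := a * t) (t := t) (by rw [hH, ha]),
        ← X.ps_torus hs hH' (w := b * u) (t := u) (by rw [hH, hb]),
        show Ext.cm (H * X.ps r t * H⁻¹) (H * X.ps s u * H⁻¹) = H * Ext.cm (X.ps r t) (X.ps s u) * H⁻¹ by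
          simp only [Ext.cm]; group, hcm] at e
      refine mul_inv_eq_one.1 (hdef (Φ (a * t) (b * u) * (Φ t u)⁻¹) _ _ hy (hW (a * t) (b * u)) ?_ ?_)
      · simp only [Subgroup.coe_mul, Subgroup.coe_inv]
        calc H * X.W r s t u * H⁻¹ = (Φ t u : E)⁻¹ * (H * ((Φ t u : E) * X.W r s t u) * H⁻¹) := by
              rw [← mul_assoc H, hcomm]; group
          _ = _ := by rw [e, ← mul_assoc, ← hcomm (a * t) (b * u)]
      · simp only [Subgroup.coe_mul, Subgroup.coe_inv]
        exact mul_mem (hker _ _) (inv_mem (hker _ _))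
    intro t u
    have hΦ : Φ t u = 1 := by
      rcases hcase with ⟨h1, h1'⟩ | ⟨h1, h1'⟩
      · refine triv_scalar Φ hl hc (fun t u => ?_) t u
        have := hinv h1 (b := 1) (fun v => by rw [h1', one_mul]) t u
        rwa [one_mul] at this
      · refine triv_scalar (fun u t => Φ t u) (fun a b v => hr' v a b) hc (fun u t => ?_) u t
        have := hinv (a := 1) (fun v => by rw [h1, one_mul]) h1' t u
        rwa [one_mul] at this
    rw [hcm, hΦ, Subgroup.coe_one, one_mul]

theorem step_ne {i r s : ℕ} (hi : i < D.rank) (hr : r < D.nroots) (hs : s < D.nroots)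
    (h2 : s ≠ D.neg r) : C.w i s ≠ D.neg (C.w i r) :=
  fun e => h2 (P.S.ok.w_inj hi hs (P.neg_lt hr) (by rw [e, P.neg_w hi hr]))

theorem rel_step {i r s : ℕ} (hi : i < D.rank) (hr : r < D.nroots) (hs : s < D.nroots)
    (h : X.Rel (C.w i r) (C.w i s)) : X.Rel r s := by
  intro t u
  set N := Function.surjInv X.hπ (P.nn (C.sr i) 1)
  have hN : X.π N = P.nn (C.sr i) 1 := Function.surjInv_eq X.hπ _
  refine mul_left_cancel (a := N) (mul_right_cancel (b := N⁻¹) ?_)
  have e1 : N * Ext.cm (X.ps r t) (X.ps s u) * N⁻¹ =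
      X.W (C.w i r) (C.w i s) ((C.eta i r : F) * t) ((C.eta i s : F) * u) := by
    rw [← h, ← X.ps_nn hi hr t hN, ← X.ps_nn hi hs u hN]
    simp only [Ext.cm]; group
  rw [e1, W, W, show N * ((D.commWord F r s t u).map fun p => X.ps p.1 p.2).prod * N⁻¹ =
    MulAut.conj N (((D.commWord F r s t u).map fun p => X.ps p.1 p.2).prod) from rfl, map_list_prod, List.map_map]
  simp only [ChevalleyDatum.commWord, P.S.ok.commTerms_w P.S.chain hi hr hs, List.map_map]
  refine congrArg List.prod (List.map_congr_left fun c hc => ?_)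
  simp only [Function.comp_apply, termW, MulAut.conj_apply]
  rw [X.ps_nn hi (Ok.commTerms_lt P.S.chain hr hs hc) _ hN]
  congr 1
  push_cast
  have s1 := Ok.eta_sq (F := F) C i r
  have s2 := Ok.eta_sq (F := F) C i s
  rw [show -((C.eta i r : F) * t) = (C.eta i r : F) * (-t) by ring, mul_pow, mul_pow]
  have p1 : (C.eta i r : F) ^ c.2.2.1 * (C.eta i r : F) ^ c.2.2.1 = 1 := by rw [← mul_pow, s1, one_pow]
  have p2 : (C.eta i s : F) ^ c.2.2.2 * (C.eta i s : F) ^ c.2.2.2 = 1 := by rw [← mul_pow, s2, one_pow]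
  linear_combination ((C.eta i c.1 : F) * (c.2.1 : F) * (-t) ^ c.2.2.1 * u ^ c.2.2.2) *
      ((C.eta i s : F) ^ c.2.2.2 * (C.eta i s : F) ^ c.2.2.2) * p1 +
      ((C.eta i c.1 : F) * (c.2.1 : F) * (-t) ^ c.2.2.1 * u ^ c.2.2.2) * p2

theorem rel_word : ∀ (L : List ℕ), (∀ a ∈ L, a < D.rank) → ∀ r s, r < D.nroots → s < D.nroots → s ≠ r →
    D.nroots / 2 ≤ (@List.rec ℕ (fun _ => ℕ → ℕ) (fun q => q) (fun a _ ih q => ih (C.w a q)) L r) →
    D.nroots / 2 ≤ (@List.rec ℕ (fun _ => ℕ → ℕ) (fun q => q) (fun a _ ih q => ih (C.w a q)) L s) → X.Rel r s := by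
  intro L
  induction L with
  | nil => intro _ r s hr hs h1 hrp hsp; exact X.rel_pos (2 * D.nroots) r s hr hs hrp hsp h1 (by omega)
  | cons a L ih =>
    intro hL r s hr hs h1 hrp hsp
    have ha := hL a List.mem_cons_self
    exact X.rel_step ha hr hs (ih (fun b hb => hL b (List.mem_cons_of_mem _ hb)) _ _ (P.S.ok.w_lt ha hr)
      (P.S.ok.w_lt ha hs) (fun e => h1 (P.S.ok.w_inj ha hs hr e)) hrp hsp)

theorem rel_simple {k : ℕ} (hk : k < D.rank) {s : ℕ} (hs : s < D.nroots) (h1 : s ≠ C.sr k)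
    (h2 : s ≠ D.neg (C.sr k)) : X.Rel (C.sr k) s := by
  have hp := P.sr_lt hk
  by_cases hsp : D.nroots / 2 ≤ s
  · exact X.rel_pos (2 * D.nroots) _ _ hp hs (P.S.sr_pos hk) hsp h1 (by omega)
  obtain ⟨L, h4, h5, h6⟩ := X.mix hk hs hsp h2
  exact X.rel_word L h4 _ _ hp hs h1 h5 h6

theorem rel_all : ∀ r < D.nroots, ∀ s < D.nroots, s ≠ r → s ≠ D.neg r → X.Rel r s := by
  refine P.S.ok.root_induction (fun i hi => ⟨fun s hs h1 h2 => X.rel_simple hi hs h1 h2, fun s hs h1 h2 => ?_⟩)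
    fun i r hi hr ih s hs h1 h2 => ?_
  · have hp := P.sr_lt hi
    have hw : C.w i (C.neg (C.sr i)) = C.sr i := by
      rw [← (P.S.ok.refl_simple hi).1, P.S.ok.w_w hi hp]
    have hn := P.S.ok.neg_lt hp
    refine X.rel_step hi hn hs ?_
    have h2' := X.step_ne hi hn hs h2
    have h1' : C.w i s ≠ C.w i (C.neg (C.sr i)) := fun e => h1 (P.S.ok.w_inj hi hs hn e)
    rw [hw] at h2' h1' ⊢
    exact X.rel_simple hi (P.S.ok.w_lt hi hs) h1' h2'
  · exact X.rel_step hi hr hs (ih _ (P.S.ok.w_lt hi hs) (fun e => h1 (P.S.ok.w_inj hi hs hr e))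
      (X.step_ne hi hr hs h2))

/-- The map from Steinberg's cover. -/
theorem exists_section : ∃ τ : D.SteinbergCover F →* E,
    ∀ r < D.nroots, ∀ t, X.π (τ (D.scGen F r t)) = P.x r t := by
  classical
  let f : Fin D.nroots × F → E := fun p => X.ps p.1.val p.2
  have hx : ∀ r (hr : r < D.nroots) t, FreeGroup.lift f (D.stX r t) = X.ps r t := fun r hr t => by
    rw [ChevalleyDatum.stX, dif_pos hr, FreeGroup.lift_apply_of]
  have hrel : ∀ g ∈ D.steinbergRelsAB F, FreeGroup.lift f g = 1 := by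
    intro g hg
    rcases hg with ⟨r, t, u, hr, rfl⟩ | ⟨r, s, t, u, hr, hs, h1, h2, rfl⟩
    · rw [map_mul, map_mul, map_inv, hx r hr, hx r hr, hx r hr, ← X.ps_add hr, mul_inv_cancel]
    · have key : FreeGroup.lift f (D.stWord (D.commWord F r s t u)) = X.W r s t u := by
        rw [ChevalleyDatum.stWord, W, map_list_prod, List.map_map]
        exact congrArg List.prod (List.map_congr_left fun p hp => hx _ (X.word_lt hr hs hp) _)
      have e := X.rel_all r hr s hs h1 h2 t u
      rw [Ext.cm, ← key] at e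
      rw [map_mul, map_mul, map_mul, map_mul, map_inv, map_inv, map_inv, hx r hr, hx s hs, e, mul_inv_cancel]
  refine ⟨PresentedGroup.toGroup hrel, fun r hr t => ?_⟩
  rw [ChevalleyDatum.scGen, ChevalleyDatum.stX, dif_pos hr]
  exact (congrArg X.π (PresentedGroup.toGroup.of hrel)).trans (X.ps_π hr t)

end LExt

namespace CExt

variable (X : CExt P E)
include X

theorem psi_nn {i r : ℕ} (hi : i < D.rank) (hr : r < D.nroots) (hroot : RootAt P r) {f f' : F → E}
    (hf₁ : ∀ (H a : E) (v w : F), X.π H ∈ P.Hb → X.π a = P.x r v → X.π (H * a * H⁻¹) = P.x r w →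
      H * a * H⁻¹ * a⁻¹ = f (w - v))
    (hf₂ : ∀ (H a : E) (v w : F), X.π H ∈ P.Hb → X.π a = P.x (C.w i r) v → X.π (H * a * H⁻¹) = P.x (C.w i r) w →
      H * a * H⁻¹ * a⁻¹ = f' (w - v))
    (t : F) {N : E} (hN : X.π N = P.nn (C.sr i) 1) :
    N * f t * N⁻¹ = f' ((C.eta i r : F) * t) := by
  obtain ⟨g, hg, c, hc, hconj⟩ := hroot
  have hc' : c - 1 ≠ 0 := sub_ne_zero.2 hc
  set H := Function.surjInv X.hπ g
  have hH : X.π H = g := Function.surjInv_eq X.hπ _
  set a := X.lx r ((c - 1)⁻¹ * t)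
  have hHa : X.π (H * a * H⁻¹) = P.x r (c * ((c - 1)⁻¹ * t)) := by
    rw [map_mul, map_mul, map_inv, hH, X.π_lx, hconj]
  have hmove : ∀ {b : E} {v : F}, X.π b = P.x r v → X.π (N * b * N⁻¹) = P.x (C.w i r) ((C.eta i r : F) * v) :=
    fun {b v} hb => by rw [map_mul, map_mul, map_inv, hN, hb, P.nconj hi hr]
  have h1 := hf₁ H a _ _ (hH ▸ hg) (X.π_lx r _) hHa
  have hH' : X.π (N * H * N⁻¹) ∈ P.Hb := by
    rw [map_mul, map_mul, map_inv, hN, hH]
    exact (Subgroup.mem_normalizer_iff.1 (P.nn_normalises hi) g).1 hg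
  have h2 := hf₂ (N * H * N⁻¹) (N * a * N⁻¹) _ ((C.eta i r : F) * (c * ((c - 1)⁻¹ * t))) hH'
    (hmove (X.π_lx r _)) (by
    rw [show N * H * N⁻¹ * (N * a * N⁻¹) * (N * H * N⁻¹)⁻¹ = N * (H * a * H⁻¹) * N⁻¹ by group]
    exact hmove hHa)
  have e : c * ((c - 1)⁻¹ * t) - (c - 1)⁻¹ * t = t := by field_simp
  rw [← mul_sub, e] at h2
  rw [e] at h1
  rw [← h1, ← h2]
  group

/-- Lifts given by commutators with the torus. -/
noncomputable def toLExt (X : CExt P E) (hroot : ∀ r < D.nroots, RootAt P r) (hself : ∀ r < D.nroots, X.Lc r r)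
    (hpair : ∀ r < D.nroots, ∀ s < D.nroots, s ≠ r → s ≠ D.neg r →
      (D.commTerms r s = [] ∧ X.Lc r s) ∨ (D.nroots / 2 ≤ r → D.nroots / 2 ≤ s → SepAt P r s))
    (hmix : ∀ k < D.rank, ∀ s < D.nroots, ¬ D.nroots / 2 ≤ s → s ≠ D.neg (C.sr k) → MixAt D C k s) :
    LExt P E :=
  let f : ℕ → F → E := fun r =>
    if hr : r < D.nroots then (X.exists_psi hr (hroot r hr) (hself r hr)).choose else fun _ => 1
  have hf : ∀ r (hr : r < D.nroots), (∀ t, X.π (f r t) = P.x r t) ∧ (∀ t u, f r (t + u) = f r t * f r u) ∧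
      ∀ (H a : E) (v w : F), X.π H ∈ P.Hb → X.π a = P.x r v → X.π (H * a * H⁻¹) = P.x r w →
        H * a * H⁻¹ * a⁻¹ = f r (w - v) := fun r hr => by
    simp only [f, dif_pos hr]
    exact (X.exists_psi hr (hroot r hr) (hself r hr)).choose_spec
  { X with
    ps := f
    ps_π := fun hr => (hf _ hr).1
    ps_add := fun hr => (hf _ hr).2.1
    ps_torus := fun {r} hr {H} hH {t w} hw => by
      have h := (hf r hr).2.2 H (f r t) t w hH ((hf r hr).1 t)
        (by rw [map_mul, map_mul, map_inv, (hf r hr).1, hw])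
      rw [mul_inv_eq_iff_eq_mul, ← (hf r hr).2.1, sub_add_cancel] at h
      exact h
    ps_nn := fun {i r} hi hr t {N} hN => X.psi_nn hi hr (hroot r hr) (hf r hr).2.2
      (hf _ (P.S.ok.w_lt hi hr)).2.2 t hN
    pair := fun hr hs h1 h2 => (hpair _ hr _ hs h1 h2).imp id fun h a b => Or.inl (h a b)
    mix := fun hk _ hs => hmix _ hk _ hs }

end CExt

/-- The map from Steinberg's cover. -/
theorem MExt.exists_section (X : MExt P E) : ∃ τ : D.SteinbergCover F →* E,
    ∀ r < D.nroots, ∀ t, X.π (τ (D.scGen F r t)) = P.x r t :=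
  (X.toCExt.toLExt (fun _ hr => X.root_data hr) (fun _ hr => X.lc_self hr)
    (fun _ hr _ hs h1 h2 => X.pair_data hr hs h1 h2) (fun _ hk _ hs => X.mix_data hk hs)).exists_section


end Cfsg.Lib.Chev.Univ.Multi
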